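import Groth.Agent.CotT85.Homotopy

/-!
# Composition, existence, and comparison of presentations
-/

set_option autoImplicit false

universe u v w t u' v' w' t' u'' v'' w'' t'' m

open TensorProduct

noncomputable section

namespace CotT85

variable {A : Type u} {B : Type v} {ι : Type w} {σ : Type t}
variable {A' : Type u'} {B' : Type v'} {ι' : Type w'} {σ' : Type t'}
variable [CommRing A] [CommRing B] [Algebra A B] [CommRing A'] [CommRing B'] [Algebra A' B']
variable [Algebra A A'] [Algebra B B'] [Algebra A B'] [IsScalarTower A A' B'] [IsScalarTower A B B']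

section Exists

variable (P : Algebra.Presentation A B ι σ) (P' : Algebra.Presentation A' B' ι' σ')

theorem nonempty_presHom : Nonempty (CotT.PresHom P P') := by
  choose g hg using fun i => algebraMap_surjective P' (algebraMap B B' (P.val i))
  let hom : Algebra.Generators.Hom P.toGenerators P'.toGenerators :=
    ⟨g, fun i => by
      have := hg i
      rw [CotT.algebraMap_toExtension] at this
      exact this⟩
  choose r hr using fun s => exists_jmap_eq P' (r := hom.toExtensionHom.toRingHom (CotT.rel P s)) (by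
    have h1 := hom.toExtensionHom.algebraMap_toRingHom (CotT.rel P s)
    rw [CotT.algebraMap_rel, map_zero] at h1
    exact h1)
  exact ⟨⟨hom, r, hr⟩⟩

def somePresHom : CotT.PresHom P P' := (nonempty_presHom P P').some

end Exists

variable {P : Algebra.Presentation A B ι σ} {P' : Algebra.Presentation A' B' ι' σ'}

lemma L0map_D (h : CotT.PresHom P P') (b : B) (r : P.toExtension.Ring) :
    h.L0map (b ⊗ₜ KaehlerDifferential.D A P.toExtension.Ring r) =
      algebraMap B B' b ⊗ₜ KaehlerDifferential.D A' P'.toExtension.Ring (h.ringHom r) := by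
  rw [CotT.PresHom.L0map_apply]
  exact Algebra.Extension.CotangentSpace.map_tmul _ _ _

lemma relModMap_id (f : CotT.relMod P) : (CotT.PresHom.id P).relModMap f = f := by
  induction f using Finsupp.induction_linear with
  | zero => simp
  | add f g hf hg => rw [map_add, hf, hg]
  | single s r =>
    rw [CotT.PresHom.relModMap_single]
    change (CotT.PresHom.id P).ringHom r • Finsupp.single s 1 = _
    rw [Finsupp.smul_single, smul_eq_mul, mul_one]
    congr 1
    induction r using ring_induction with
    | C a => rw [ringHom_C]; rfl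
    | add p q hp hq => rw [map_add, hp, hq]
    | mul_X p i hp => rw [map_mul, hp, ringHom_X]; rfl

variable (P) in
lemma T0pull_id (M : Type m) [AddCommGroup M] [Module B M] (ψ : CotT.T0 P M) :
    (CotT.PresHom.id P).T0pull M ψ = ψ := by
  refine Subtype.ext (P.cotangentSpaceBasis.ext fun i => ?_)
  change (ψ : CotT.L0 P →ₗ[B] M) ((CotT.PresHom.id P).L0map (P.cotangentSpaceBasis i)) = _
  rw [L0map_basis, basis_eq_tmul]
  rfl

variable (P) in
lemma T1pull_id (M : Type m) [AddCommGroup M] [Module B M] (x : CotT.T1 P M) :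
    (CotT.PresHom.id P).T1pull M x = x := by
  obtain ⟨c, rfl⟩ := Submodule.Quotient.mk_surjective _ x
  refine congrArg Submodule.Quotient.mk (Subtype.ext (LinearMap.ext fun z => ?_))
  obtain ⟨f, rfl⟩ := exists_one_tmul_eq P z
  rw [CotT.PresHom.cocycles1Pull_coe, CotT.PresHom.pull1_apply, L1map_one_tmul, relModMap_id]
  rfl

variable (P) in
lemma T2pull_id (M : Type m) [AddCommGroup M] [Module B M] (x : CotT.T2 P M) :
    (CotT.PresHom.id P).T2pull M x = x := by
  obtain ⟨ψ, rfl⟩ := Submodule.Quotient.mk_surjective _ x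
  refine congrArg Submodule.Quotient.mk (LinearMap.ext fun z => ?_)
  obtain ⟨q, rfl⟩ := mk2_surjective P z
  rw [CotT.PresHom.pull2_apply, L2map_mk2]
  congr 2
  exact Subtype.ext (relModMap_id _)

section Comp

variable {A'' : Type u''} {B'' : Type v''} {ι'' : Type w''} {σ'' : Type t''}
variable [CommRing A''] [CommRing B''] [Algebra A'' B'']
variable [Algebra A' A''] [Algebra B' B''] [Algebra A' B''] [IsScalarTower A' A'' B'']
  [IsScalarTower A' B' B'']
variable [Algebra A A''] [Algebra B B''] [Algebra A B''] [IsScalarTower A A'' B'']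
  [IsScalarTower A B B'']
variable [IsScalarTower B B' B''] [IsScalarTower A A' A'']
variable {P'' : Algebra.Presentation A'' B'' ι'' σ''}
variable (h : CotT.PresHom P P') (h' : CotT.PresHom P' P'')

/-- The hom part of a composite. -/
def compHom : Algebra.Generators.Hom P.toGenerators P''.toGenerators where
  val i := h'.ringHom (hval h i)
  aeval_val i := by
    have := h'.algebraMap_ringHom (hval h i)
    rw [algebraMap_hval, CotT.algebraMap_toExtension] at this
    exact this.trans (IsScalarTower.algebraMap_apply B B' B'' _).symm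

lemma compHom_apply (r : P.toExtension.Ring) :
    (compHom h h').toExtensionHom.toRingHom r = h'.ringHom (h.ringHom r) := by
  induction r using ring_induction with
  | C a =>
    rw [ringHom_C, ringHom_C, ← IsScalarTower.algebraMap_apply]
    exact (compHom h h').toAlgHom_C a
  | add p q hp hq => rw [map_add, map_add, map_add, hp, hq]
  | mul_X p i hp =>
    rw [map_mul, map_mul, map_mul, hp, ringHom_X]
    congr 1
    exact (compHom h h').toAlgHom_X i

/-- Composite of two morphisms of presentations. -/
def comp : CotT.PresHom P P'' where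
  hom := compHom h h'
  relVal s := h'.relModMap (h.relVal s)
  jmap_relVal s := by
    rw [CotT.PresHom.jmap_relModMap, h.jmap_relVal, compHom_apply]

lemma ringHom_comp (r : P.toExtension.Ring) : (comp h h').ringHom r = h'.ringHom (h.ringHom r) :=
  compHom_apply h h' r

lemma relModMap_comp (f : CotT.relMod P) :
    (comp h h').relModMap f = h'.relModMap (h.relModMap f) := by
  induction f using Finsupp.induction_linear with
  | zero => simp
  | add f g hf hg => rw [map_add, map_add, map_add, hf, hg]
  | single s r =>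
    rw [CotT.PresHom.relModMap_single, CotT.PresHom.relModMap_single, LinearMap.map_smulₛₗ, ringHom_comp]
    rfl

variable (M : Type m) [AddCommGroup M] [Module B'' M] [Module B' M] [Module B M]
  [IsScalarTower B' B'' M] [IsScalarTower B B'' M] [IsScalarTower B B' M]

lemma T0pull_comp (ψ : CotT.T0 P'' M) :
    (comp h h').T0pull M ψ = h.T0pull M (h'.T0pull M ψ) := by
  refine Subtype.ext (P.cotangentSpaceBasis.ext fun i => ?_)
  change (ψ : CotT.L0 P'' →ₗ[B''] M) ((comp h h').L0map (P.cotangentSpaceBasis i)) =
    (ψ : CotT.L0 P'' →ₗ[B''] M) (h'.L0map (h.L0map (P.cotangentSpaceBasis i)))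
  rw [basis_eq_tmul, L0map_D, L0map_D, L0map_D, ringHom_comp, IsScalarTower.algebraMap_apply B B' B'']

lemma T1pull_comp (x : CotT.T1 P'' M) :
    (comp h h').T1pull M x = h.T1pull M (h'.T1pull M x) := by
  obtain ⟨c, rfl⟩ := Submodule.Quotient.mk_surjective _ x
  refine congrArg Submodule.Quotient.mk (Subtype.ext (LinearMap.ext fun z => ?_))
  obtain ⟨f, rfl⟩ := exists_one_tmul_eq P z
  change (c : CotT.L1 P'' →ₗ[B''] M) ((comp h h').L1map ((1 : B) ⊗ₜ f)) =
    (c : CotT.L1 P'' →ₗ[B''] M) (h'.L1map (h.L1map ((1 : B) ⊗ₜ f)))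
  rw [L1map_one_tmul, L1map_one_tmul, L1map_one_tmul, relModMap_comp]

lemma T2pull_comp (x : CotT.T2 P'' M) :
    (comp h h').T2pull M x = h.T2pull M (h'.T2pull M x) := by
  obtain ⟨ψ, rfl⟩ := Submodule.Quotient.mk_surjective _ x
  refine congrArg Submodule.Quotient.mk (LinearMap.ext fun z => ?_)
  obtain ⟨q, rfl⟩ := mk2_surjective P z
  change ψ ((comp h h').L2map (mk2 P q)) = ψ (h'.L2map (h.L2map (mk2 P q)))
  rw [L2map_mk2, L2map_mk2, L2map_mk2]
  congr 2
  exact Subtype.ext (relModMap_comp h h' _)

end Comp

section SameAlgebra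

variable {A₀ : Type u} {B₀ : Type v} [CommRing A₀] [CommRing B₀] [Algebra A₀ B₀]
variable {ι₀ : Type w} {σ₀ : Type t} {ι₁ : Type w'} {σ₁ : Type t'}
variable (M : Type m) [AddCommGroup M] [Module B₀ M]
variable {Q : Algebra.Presentation A₀ B₀ ι₀ σ₀} {Q' : Algebra.Presentation A₀ B₀ ι₁ σ₁}

theorem T0pull_bijective (h : CotT.PresHom Q Q') : Function.Bijective (h.T0pull M) := by
  let k := somePresHom Q' Q
  refine ⟨Function.LeftInverse.injective (g := k.T0pull M) fun ψ => ?_,
    Function.RightInverse.surjective (g := k.T0pull M) fun ψ => ?_⟩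
  · rw [← T0pull_comp k h M ψ, T0pull_eq (comp k h) (CotT.PresHom.id Q'), T0pull_id]
  · rw [← T0pull_comp h k M ψ, T0pull_eq (comp h k) (CotT.PresHom.id Q), T0pull_id]

theorem T1pull_bijective (h : CotT.PresHom Q Q') : Function.Bijective (h.T1pull M) := by
  let k := somePresHom Q' Q
  refine ⟨Function.LeftInverse.injective (g := k.T1pull M) fun ψ => ?_,
    Function.RightInverse.surjective (g := k.T1pull M) fun ψ => ?_⟩
  · rw [← T1pull_comp k h M ψ, T1pull_eq (comp k h) (CotT.PresHom.id Q'), T1pull_id]
  · rw [← T1pull_comp h k M ψ, T1pull_eq (comp h k) (CotT.PresHom.id Q), T1pull_id]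

theorem T2pull_bijective (h : CotT.PresHom Q Q') : Function.Bijective (h.T2pull M) := by
  let k := somePresHom Q' Q
  refine ⟨Function.LeftInverse.injective (g := k.T2pull M) fun ψ => ?_,
    Function.RightInverse.surjective (g := k.T2pull M) fun ψ => ?_⟩
  · rw [← T2pull_comp k h M ψ, T2pull_eq (comp k h) (CotT.PresHom.id Q'), T2pull_id]
  · rw [← T2pull_comp h k M ψ, T2pull_eq (comp h k) (CotT.PresHom.id Q), T2pull_id]

variable (Q Q')

/-- `T⁰` of two presentations. -/
def T0equiv : CotT.T0 Q M ≃ₗ[B₀] CotT.T0 Q' M :=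
  LinearEquiv.ofBijective _ (T0pull_bijective M (somePresHom Q' Q))

/-- `T¹` of two presentations. -/
def T1equiv : CotT.T1 Q M ≃ₗ[B₀] CotT.T1 Q' M :=
  LinearEquiv.ofBijective _ (T1pull_bijective M (somePresHom Q' Q))

/-- `T²` of two presentations. -/
def T2equiv : CotT.T2 Q M ≃ₗ[B₀] CotT.T2 Q' M :=
  LinearEquiv.ofBijective _ (T2pull_bijective M (somePresHom Q' Q))

end SameAlgebra

end CotT85
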