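import Groth.Agent.CotT85.Basic

/-!
# `T⁰` and `T¹` through the naive cotangent complex
-/

set_option autoImplicit false

universe u v w t m

open TensorProduct

noncomputable section

namespace CotT85

variable {A : Type u} {B : Type v} {ι : Type w} {σ : Type t}
variable [CommRing A] [CommRing B] [Algebra A B]
variable (P : Algebra.Presentation A B ι σ)
variable (M : Type m) [AddCommGroup M] [Module B M]

lemma comp_toCot_injective :
    Function.Injective (LinearMap.lcomp B M (CotT.toCot P)) := fun a b h =>
  (LinearMap.cancel_right (toCot_surjective P)).1 h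

lemma ker_d1Star_eq :
    LinearMap.ker (CotT.d1Star P M) =
      LinearMap.ker (LinearMap.lcomp B M P.toExtension.cotangentComplex) := by
  ext φ
  rw [LinearMap.mem_ker, LinearMap.mem_ker, CotT.d1Star_apply, LinearMap.lcomp_apply', CotT.d1,
    ← LinearMap.comp_assoc]
  exact ⟨fun h => comp_toCot_injective P M (h.trans (LinearMap.zero_comp _).symm),
    fun h => by rw [h, LinearMap.zero_comp]⟩

lemma homToT1_surjective : Function.Surjective (CotT.homToT1 P M) := by
  intro x
  obtain ⟨c, rfl⟩ := Submodule.Quotient.mk_surjective _ x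
  obtain ⟨φ, hφ⟩ := exists_comp_toCot_eq P (c : CotT.L1 P →ₗ[B] M) (LinearMap.mem_ker.1 c.2)
  exact ⟨φ, congrArg Submodule.Quotient.mk (Subtype.ext hφ)⟩

lemma ker_homToT1 :
    LinearMap.ker (CotT.homToT1 P M) =
      LinearMap.range (LinearMap.lcomp B M P.toExtension.cotangentComplex) := by
  ext φ
  rw [LinearMap.mem_ker]
  change (Submodule.Quotient.mk _ : CotT.T1 P M) = 0 ↔ _
  rw [Submodule.Quotient.mk_eq_zero, Submodule.mem_comap]
  constructor
  · rintro ⟨ψ, hψ⟩
    refine ⟨ψ, comp_toCot_injective P M ?_⟩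
    exact hψ
  · rintro ⟨ψ, rfl⟩
    exact ⟨ψ, rfl⟩

end CotT85
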