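import Groth.Prelude.Def_CotT2

/-!
# Basic facts on the cotangent complex of a presentation

`L₂ → L₁ → I/I² → 0` is exact, and `L₀`, `L₁` are free.
-/

set_option autoImplicit false

universe u v w t m m'

open TensorProduct

noncomputable section

namespace CotT85

variable {A : Type u} {B : Type v} {ι : Type w} {σ : Type t}
variable [CommRing A] [CommRing B] [Algebra A B]
variable (P : Algebra.Presentation A B ι σ)

lemma algebraMap_surjective : Function.Surjective (algebraMap P.toExtension.Ring B) :=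
  P.toExtension.algebraMap_surjective

/-- `b ⊗ f = 1 ⊗ (r • f)` for any lift `r` of `b`. -/
lemma tmul_eq_one_tmul_smul {N : Type*} [AddCommMonoid N] [Module P.toExtension.Ring N]
    (r : P.toExtension.Ring) (x : N) :
    (algebraMap P.toExtension.Ring B r) ⊗ₜ[P.toExtension.Ring] x = (1 : B) ⊗ₜ (r • x) := by
  rw [← smul_tmul, Algebra.smul_def, mul_one]

/-- Every element of `B ⊗_R N` has the form `1 ⊗ x`. -/
lemma exists_one_tmul_eq {N : Type*} [AddCommMonoid N] [Module P.toExtension.Ring N]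
    (z : B ⊗[P.toExtension.Ring] N) : ∃ x : N, (1 : B) ⊗ₜ x = z := by
  induction z using TensorProduct.induction_on with
  | zero => exact ⟨0, tmul_zero _ _⟩
  | add x y hx hy =>
    obtain ⟨a, rfl⟩ := hx
    obtain ⟨b, rfl⟩ := hy
    exact ⟨a + b, tmul_add _ _ _⟩
  | tmul b f =>
    obtain ⟨r, rfl⟩ := algebraMap_surjective P b
    exact ⟨r • f, (tmul_eq_one_tmul_smul P r f).symm⟩

/-- The kernel ideal kills `B ⊗_R N`. -/
lemma one_tmul_smul_eq_zero {N : Type*} [AddCommMonoid N] [Module P.toExtension.Ring N]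
    {r : P.toExtension.Ring} (hr : r ∈ P.toExtension.ker) (x : N) :
    (1 : B) ⊗ₜ[P.toExtension.Ring] (r • x) = 0 := by
  rw [← tmul_eq_one_tmul_smul P r x, show algebraMap P.toExtension.Ring B r = 0 from hr, zero_tmul]

lemma one_tmul_eq_zero_of_mem_smul_top {N : Type*} [AddCommMonoid N] [Module P.toExtension.Ring N]
    {x : N} (hx : x ∈ P.toExtension.ker • (⊤ : Submodule P.toExtension.Ring N)) :
    (1 : B) ⊗ₜ[P.toExtension.Ring] x = 0 := by
  refine Submodule.smul_induction_on hx (fun r hr y _ => one_tmul_smul_eq_zero P hr y) ?_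
  intro a b ha hb
  rw [tmul_add, ha, hb, add_zero]

/-- The constants of `R`, with the name of `R` used by the complex. -/
def rC : A →+* P.toExtension.Ring := (MvPolynomial.C : A →+* MvPolynomial ι A)

/-- The variables of `R`. -/
def rX (i : ι) : P.toExtension.Ring := (MvPolynomial.X i : MvPolynomial ι A)

lemma rC_eq_algebraMap (a : A) : rC P a = algebraMap A P.toExtension.Ring a := rfl

lemma algebraMap_rX (i : ι) : algebraMap P.toExtension.Ring B (rX P i) = P.val i := by
  rw [CotT.algebraMap_toExtension]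
  exact MvPolynomial.aeval_X _ i

@[elab_as_elim]
lemma ring_induction {motive : P.toExtension.Ring → Prop} (p : P.toExtension.Ring)
    (C : ∀ a, motive (rC P a)) (add : ∀ p q, motive p → motive q → motive (p + q))
    (mul_X : ∀ p i, motive p → motive (p * rX P i)) : motive p :=
  MvPolynomial.induction_on p C add mul_X

lemma basis_eq_tmul (i : ι) :
    P.cotangentSpaceBasis i = (1 : B) ⊗ₜ KaehlerDifferential.D A P.toExtension.Ring (rX P i) :=
  Algebra.Generators.cotangentSpaceBasis_apply _ i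

lemma exists_jmap_eq {r : P.toExtension.Ring} (hr : r ∈ P.toExtension.ker) :
    ∃ f : CotT.relMod P, CotT.jmap P f = r := by
  have : r ∈ LinearMap.range (CotT.jmap P) := by
    rw [CotT.range_jmap]
    exact hr
  exact this

/-- An element of `I²` lifts to an element of `I F`. -/
lemma exists_jmap_eq_of_mem_sq {r : P.toExtension.Ring} (hr : r ∈ P.toExtension.ker ^ 2) :
    ∃ f ∈ P.toExtension.ker • (⊤ : Submodule P.toExtension.Ring (CotT.relMod P)),
      CotT.jmap P f = r := by
  rw [pow_two] at hr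
  induction hr using Submodule.mul_induction_on' with
  | mem_mul_mem a ha b hb =>
    obtain ⟨g, rfl⟩ := exists_jmap_eq P hb
    exact ⟨a • g, Submodule.smul_mem_smul ha trivial, by rw [map_smul, smul_eq_mul]⟩
  | add x _ y _ hx hy =>
    obtain ⟨f, hf, rfl⟩ := hx
    obtain ⟨g, hg, rfl⟩ := hy
    exact ⟨f + g, add_mem hf hg, map_add _ _ _⟩

/-- `L₁ → I/I²` is surjective. -/
lemma toCot_surjective : Function.Surjective (CotT.toCot P) := by
  intro y
  obtain ⟨⟨r, hr⟩, rfl⟩ := Algebra.Extension.Cotangent.mk_surjective y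
  obtain ⟨f, rfl⟩ := exists_jmap_eq P hr
  exact ⟨(1 : B) ⊗ₜ f, by rw [CotT.toCot_tmul, one_smul]; rfl⟩

/-- The kernel of `L₁ → I/I²` is the image of `L₂`. -/
lemma ker_toCot : LinearMap.ker (CotT.toCot P) = LinearMap.range (CotT.d2 P) := by
  refine le_antisymm (fun z hz => ?_) (LinearMap.range_le_ker_iff.2 (CotT.toCot_comp_d2 P))
  obtain ⟨f, rfl⟩ := exists_one_tmul_eq P z
  rw [LinearMap.mem_ker, CotT.toCot_tmul, one_smul, Algebra.Extension.Cotangent.mk_eq_zero_iff] at hz
  obtain ⟨w, hw, hwf⟩ := exists_jmap_eq_of_mem_sq P hz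
  have hq : f - w ∈ CotT.relKer P := by
    change CotT.jmap P (f - w) = 0
    rw [map_sub, hwf, CotT.jker_apply, sub_self]
  refine ⟨Submodule.Quotient.mk ((1 : B) ⊗ₜ ⟨f - w, hq⟩), ?_⟩
  rw [CotT.d2_mk_tmul, tmul_sub, one_tmul_eq_zero_of_mem_smul_top P hw, sub_zero]

variable {M : Type m} [AddCommGroup M] [Module B M] {N : Type m'} [AddCommGroup N] [Module B N]

/-- A 1-cocycle factors through `I/I²`. -/
lemma exists_comp_toCot_eq (c : CotT.L1 P →ₗ[B] M) (hc : c ∘ₗ CotT.d2 P = 0) :
    ∃ φ : P.toExtension.Cotangent →ₗ[B] M, φ ∘ₗ CotT.toCot P = c := by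
  have hle : LinearMap.ker (CotT.toCot P) ≤ LinearMap.ker c := by
    rw [ker_toCot]
    exact LinearMap.range_le_ker_iff.2 hc
  refine ⟨(LinearMap.ker (CotT.toCot P)).liftQ c hle ∘ₗ
    ((CotT.toCot P).quotKerEquivOfSurjective (toCot_surjective P)).symm.toLinearMap, ?_⟩
  refine LinearMap.ext fun x => ?_
  have h : ((CotT.toCot P).quotKerEquivOfSurjective (toCot_surjective P)).symm (CotT.toCot P x) =
      Submodule.Quotient.mk x := by
    rw [LinearEquiv.symm_apply_eq]
    rfl
  simp only [LinearMap.comp_apply, LinearEquiv.coe_coe, h, Submodule.liftQ_apply]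

lemma exists_lift_L0 {g : M →ₗ[B] N} (hg : Function.Surjective g) (φ : CotT.L0 P →ₗ[B] N) :
    ∃ ψ : CotT.L0 P →ₗ[B] M, g ∘ₗ ψ = φ := by
  choose s hs using hg
  refine ⟨P.cotangentSpaceBasis.constr ℕ fun i => s (φ (P.cotangentSpaceBasis i)), ?_⟩
  refine P.cotangentSpaceBasis.ext fun i => ?_
  rw [LinearMap.comp_apply, Module.Basis.constr_basis, hs]

lemma exists_lift_L1 {g : M →ₗ[B] N} (hg : Function.Surjective g) (φ : CotT.L1 P →ₗ[B] N) :
    ∃ ψ : CotT.L1 P →ₗ[B] M, g ∘ₗ ψ = φ := by
  choose s hs using hg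
  refine ⟨(CotT.L1basis P).constr ℕ fun i => s (φ (CotT.L1basis P i)), ?_⟩
  refine (CotT.L1basis P).ext fun i => ?_
  rw [LinearMap.comp_apply, Module.Basis.constr_basis, hs]

end CotT85
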