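import Groth.Agent.CotT85.Homotopy

/-!
# `L₂ = Q/F₀`
-/

set_option autoImplicit false

universe u v w t

open TensorProduct

noncomputable section

namespace CotT85

variable {A : Type u} {B : Type v} {ι : Type w} {σ : Type t}
variable [CommRing A] [CommRing B] [Algebra A B]
variable (P : Algebra.Presentation A B ι σ)

/-- `I Q ⊆ F₀`. -/
lemma smul_gmk_eq_zero {r : P.toExtension.Ring} (hr : r ∈ P.toExtension.ker) (q : CotT.relKer P) :
    r • gmk P (q : CotT.relMod P) = 0 := by
  obtain ⟨w, rfl⟩ := exists_jmap_eq P hr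
  rw [← gj_gmk, gj_comm, gj_gmk, show CotT.jmap P (q : CotT.relMod P) = 0 from q.2, zero_smul]

lemma smul_gmk_eq_of_algebraMap_eq {r r' : P.toExtension.Ring}
    (h : algebraMap P.toExtension.Ring B r = algebraMap P.toExtension.Ring B r') (q : CotT.relKer P) :
    r • gmk P (q : CotT.relMod P) = r' • gmk P (q : CotT.relMod P) := by
  rw [← sub_eq_zero, ← sub_smul]
  refine smul_gmk_eq_zero P ?_ q
  change algebraMap P.toExtension.Ring B (r - r') = 0
  rw [map_sub, h, sub_self]

def toGAux : B ⊗[P.toExtension.Ring] CotT.relKer P →+ GMod P :=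
  TensorProduct.liftAddHom
    { toFun := fun b =>
        { toFun := fun q => P.toExtension.σ b • gmk P (q : CotT.relMod P)
          map_zero' := by rw [Submodule.coe_zero, map_zero, smul_zero]
          map_add' := fun q q' => by rw [Submodule.coe_add, map_add, smul_add] }
      map_zero' := AddMonoidHom.ext fun q => by
        change P.toExtension.σ 0 • gmk P (q : CotT.relMod P) = 0
        exact smul_gmk_eq_zero P (P.toExtension.algebraMap_σ 0) q
      map_add' := fun b b' => AddMonoidHom.ext fun q => by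
        change P.toExtension.σ (b + b') • gmk P (q : CotT.relMod P) =
          P.toExtension.σ b • gmk P (q : CotT.relMod P) + P.toExtension.σ b' • gmk P (q : CotT.relMod P)
        rw [← add_smul]
        refine smul_gmk_eq_of_algebraMap_eq P ?_ q
        rw [map_add, P.toExtension.algebraMap_σ, P.toExtension.algebraMap_σ, P.toExtension.algebraMap_σ] }
    (fun r b q => by
      change P.toExtension.σ (r • b) • gmk P (q : CotT.relMod P) =
        P.toExtension.σ b • gmk P ((r • q : CotT.relKer P) : CotT.relMod P)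
      rw [Submodule.coe_smul, map_smul, smul_smul]
      refine smul_gmk_eq_of_algebraMap_eq P ?_ q
      rw [map_mul, P.toExtension.algebraMap_σ, P.toExtension.algebraMap_σ, Algebra.smul_def, mul_comm])

lemma toGAux_one_tmul (q : CotT.relKer P) :
    toGAux P ((1 : B) ⊗ₜ q) = gmk P (q : CotT.relMod P) := by
  change P.toExtension.σ 1 • gmk P (q : CotT.relMod P) = _
  conv_rhs => rw [← one_smul P.toExtension.Ring (gmk P (q : CotT.relMod P))]
  exact smul_gmk_eq_of_algebraMap_eq P (by rw [P.toExtension.algebraMap_σ, map_one]) q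

/-- `L₂` is `Q/F₀`. -/
theorem mk2_eq_zero_iff {q : CotT.relKer P} :
    mk2 P q = 0 ↔ (q : CotT.relMod P) ∈ CotT.trivRel P := by
  refine ⟨fun h => ?_, mk2_eq_zero P⟩
  rw [← gmk_eq_zero, ← toGAux_one_tmul]
  obtain ⟨z, hz⟩ := (Submodule.Quotient.mk_eq_zero _).1 h
  rw [← hz]
  obtain ⟨k, rfl⟩ := exists_one_tmul_eq P z
  rw [LinearMap.baseChange_tmul, toGAux_one_tmul, gmk_eq_zero]
  exact k.2

lemma subsingleton_L2_iff :
    Subsingleton (CotT.L2 P) ↔ CotT.relKer P ≤ CotT.trivRel P := by
  constructor
  · intro h q hq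
    exact (mk2_eq_zero_iff P (q := ⟨q, hq⟩)).1 (Subsingleton.elim _ _)
  · intro h
    refine subsingleton_of_forall_eq 0 fun z => ?_
    obtain ⟨q, rfl⟩ := mk2_surjective P z
    exact mk2_eq_zero P (h q.2)

end CotT85
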