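import Mathlib.RingTheory.Smooth.Basic
import Groth.Agent.CotT85.Compare
import Groth.Agent.CotT85.Dual
import Groth.Agent.CotT85.L2

/-!
# When `T¹` and `T²` vanish
-/

set_option autoImplicit false

universe u v w t w' t' m

open TensorProduct

noncomputable section

namespace CotT85

section Injective

variable {A : Type u} {B : Type v} {ι : Type w} {σ : Type t} {ι' : Type w'} {σ' : Type t'}
variable [CommRing A] [CommRing B] [Algebra A B]

/-- Injectivity of `L₂ → L₁` does not depend on the presentation. -/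
theorem d2_injective_of_presentation (P : Algebra.Presentation A B ι σ)
    (Q : Algebra.Presentation A B ι' σ') (hQ : Function.Injective (CotT.d2 Q)) :
    Function.Injective (CotT.d2 P) := by
  refine (injective_iff_map_eq_zero _).2 fun z hz => ?_
  let h : CotT.PresHom P Q := somePresHom P Q
  let k : CotT.PresHom Q P := somePresHom Q P
  have hz' : h.L2map z = 0 := hQ (by rw [h.d2_L2map, hz, map_zero, map_zero])
  obtain ⟨φ, hφ⟩ : ∃ φ : CotT.L1 P →ₗ[B] CotT.L2 P,
      φ ∘ₗ CotT.d2 P = LinearMap.id - (comp h k).pull2 (CotT.L2 P) LinearMap.id := by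
    have h1 := LinearMap.congr_fun (T2pull_eq (comp h k) (CotT.PresHom.id P) (CotT.L2 P))
      (Submodule.Quotient.mk (LinearMap.id : CotT.L2 P →ₗ[B] CotT.L2 P))
    rw [T2pull_id] at h1
    obtain ⟨φ, hφ⟩ := (Submodule.Quotient.eq (p := LinearMap.range (CotT.d2Star P (CotT.L2 P)))
      (x := (comp h k).pull2 (CotT.L2 P) LinearMap.id) (y := LinearMap.id)).1 h1
    refine ⟨-φ, ?_⟩
    rw [LinearMap.neg_comp, ← CotT.d2Star_apply, hφ, neg_sub]
  have h2 := LinearMap.congr_fun hφ z
  rw [LinearMap.comp_apply, hz, map_zero, LinearMap.sub_apply, CotT.PresHom.pull2_apply,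
    LinearMap.id_apply, LinearMap.id_apply] at h2
  have h3 : (comp h k).L2map z = k.L2map (h.L2map z) := by
    obtain ⟨q, rfl⟩ := mk2_surjective P z
    rw [L2map_mk2, L2map_mk2, L2map_mk2]
    exact congrArg _ (Subtype.ext (relModMap_comp h k _))
  rw [h3, hz', map_zero, sub_zero] at h2
  exact h2.symm

theorem d2_injective_of_subsingleton_L2 (P : Algebra.Presentation A B ι σ)
    (Q : Algebra.Presentation A B ι' σ') [Subsingleton (CotT.L2 Q)] :
    Function.Injective (CotT.d2 P) :=
  d2_injective_of_presentation P Q (Function.injective_of_subsingleton _)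

instance formallySmooth_ring (P : Algebra.Presentation A B ι σ) :
    Algebra.FormallySmooth A P.toExtension.Ring :=
  inferInstanceAs (Algebra.FormallySmooth A (MvPolynomial ι A))

/-- If `d₂` is injective and the algebra is formally smooth, then `T²` vanishes. -/
theorem subsingleton_T2_of_injective [Algebra.FormallySmooth A B] (P : Algebra.Presentation A B ι σ)
    (hd : Function.Injective (CotT.d2 P)) (M : Type m) [AddCommGroup M] [Module B M] :
    Subsingleton (CotT.T2 P M) := by
  obtain ⟨l, hl⟩ := P.toExtension.formallySmooth_iff_split_injection.1 ‹_›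
  choose g hg using fun i => toCot_surjective P (l (P.cotangentSpaceBasis i))
  let u : CotT.L0 P →ₗ[B] CotT.L1 P := P.cotangentSpaceBasis.constr ℕ g
  have hu : CotT.toCot P ∘ₗ u = l := P.cotangentSpaceBasis.ext fun i => by
    rw [LinearMap.comp_apply, Module.Basis.constr_basis, hg]
  -- the projection of `L₁` on the image of `d₂`
  let π : CotT.L1 P →ₗ[B] CotT.L1 P := LinearMap.id - u ∘ₗ CotT.d1 P
  have hπ : ∀ x, π x ∈ LinearMap.range (CotT.d2 P) := fun x => by
    rw [← ker_toCot, LinearMap.mem_ker]
    simp only [π, LinearMap.sub_apply, LinearMap.id_apply, map_sub, LinearMap.comp_apply]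
    rw [← LinearMap.comp_apply (CotT.toCot P) u, hu]
    have := LinearMap.congr_fun hl (CotT.toCot P x)
    rw [LinearMap.comp_apply, LinearMap.id_apply] at this
    rw [CotT.d1, LinearMap.comp_apply, this, sub_self]
  let r : CotT.L1 P →ₗ[B] CotT.L2 P :=
    (LinearEquiv.ofInjective _ hd).symm.toLinearMap ∘ₗ π.codRestrict _ hπ
  have hr : ∀ z, r (CotT.d2 P z) = z := fun z => by
    refine hd ?_
    change CotT.d2 P ((LinearEquiv.ofInjective _ hd).symm ⟨π (CotT.d2 P z), hπ _⟩) = _
    refine (LinearEquiv.ofInjective_symm_apply (h := hd) _ _).trans ?_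
    simp only [π, LinearMap.sub_apply, LinearMap.id_apply, LinearMap.comp_apply]
    rw [show CotT.d1 P (CotT.d2 P z) = 0 from LinearMap.congr_fun (CotT.d1_comp_d2 P) z, map_zero,
      sub_zero]
  refine subsingleton_of_forall_eq 0 fun x => ?_
  obtain ⟨ψ, rfl⟩ := Submodule.Quotient.mk_surjective _ x
  exact (Submodule.Quotient.mk_eq_zero _).2 ⟨ψ ∘ₗ r, LinearMap.ext fun z => congrArg ψ (hr z)⟩

theorem subsingleton_T1_of_formallySmooth [Algebra.FormallySmooth A B]
    (P : Algebra.Presentation A B ι σ) (M : Type m) [AddCommGroup M] [Module B M] :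
    Subsingleton (CotT.T1 P M) := by
  obtain ⟨l, hl⟩ := P.toExtension.formallySmooth_iff_split_injection.1 ‹_›
  refine subsingleton_of_forall_eq 0 fun x => ?_
  obtain ⟨φ, rfl⟩ := homToT1_surjective P M x
  rw [← LinearMap.mem_ker, ker_homToT1]
  exact ⟨φ ∘ₗ l, by rw [LinearMap.lcomp_apply', LinearMap.comp_assoc, hl, LinearMap.comp_id]⟩

end Injective

section FS

variable {A B : Type u} [CommRing A] [CommRing B] [Algebra A B] {ι σ : Type u}

/-- `T¹(B/A, M) = 0` for all `M` iff `B` is formally smooth. -/
theorem formallySmooth_iff_subsingleton_T1 (P : Algebra.Presentation A B ι σ) :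
    Algebra.FormallySmooth A B ↔
      ∀ (M : Type u) [AddCommGroup M] [Module B M], Subsingleton (CotT.T1 P M) := by
  refine ⟨fun h M _ _ => subsingleton_T1_of_formallySmooth P M, fun h => ?_⟩
  rw [P.toExtension.formallySmooth_iff_split_injection]
  have := h P.toExtension.Cotangent
  have hmem : (LinearMap.id : P.toExtension.Cotangent →ₗ[B] P.toExtension.Cotangent) ∈
      LinearMap.ker (CotT.homToT1 P P.toExtension.Cotangent) :=
    LinearMap.mem_ker.2 (Subsingleton.elim _ _)
  rw [ker_homToT1] at hmem
  obtain ⟨l, hl⟩ := hmem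
  exact ⟨l, hl⟩

end FS

end CotT85
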