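import Mathlib.RingTheory.Regular.RegularSequence
import Mathlib.LinearAlgebra.Finsupp.LinearCombination

/-!
# The relations of a weakly regular sequence are trivial
-/

set_option autoImplicit false

universe u

noncomputable section

namespace CotT85

variable {R : Type u} [CommRing R] {n : ℕ} (a : Fin n → R)

/-- The span of the trivial relations. -/
def koszul : Submodule R (Fin n →₀ R) :=
  Submodule.span R {y | ∃ x z : Fin n →₀ R,
    y = Finsupp.linearCombination R a x • z - Finsupp.linearCombination R a z • x}

theorem mem_koszul_of_weaklyRegular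
    (hreg : ∀ i : Fin n, ∀ r : R, r * a i ∈ Ideal.span (a '' {j | j < i}) →
      r ∈ Ideal.span (a '' {j | j < i}))
    (x : Fin n →₀ R) (hx : Finsupp.linearCombination R a x = 0) : x ∈ koszul a := by
  suffices h : ∀ k : ℕ, ∀ x : Fin n →₀ R, (∀ j : Fin n, k ≤ (j : ℕ) → x j = 0) →
      Finsupp.linearCombination R a x = 0 → x ∈ koszul a from
    h n x (fun j hj => absurd j.2 (not_lt.2 hj)) hx
  intro k
  induction k with
  | zero =>
    intro x hsupp _
    rw [show x = 0 from Finsupp.ext fun j => hsupp j (Nat.zero_le _)]
    exact zero_mem _
  | succ k ih =>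
    intro x hsupp hx
    by_cases hk : k < n
    · let i : Fin n := ⟨k, hk⟩
      let x₀ : Fin n →₀ R := x - Finsupp.single i (x i)
      have hx₀ : ∀ j : Fin n, k ≤ (j : ℕ) → x₀ j = 0 := by
        intro j hj
        by_cases hji : j = i
        · subst hji
          simp [x₀]
        · have : k + 1 ≤ (j : ℕ) := by
            have : (j : ℕ) ≠ k := fun h => hji (Fin.ext h)
            omega
          simp [x₀, hsupp j this, Ne.symm hji]
      have hmem₀ : x₀ ∈ Finsupp.supported R R {j : Fin n | j < i} := by
        rw [Finsupp.mem_supported']
        intro j hj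
        exact hx₀ j (not_lt.1 hj)
      have hlc : Finsupp.linearCombination R a x₀ = -(x i * a i) := by
        rw [map_sub, hx, Finsupp.linearCombination_single, smul_eq_mul, zero_sub]
      have hspan : x i ∈ Ideal.span (a '' {j | j < i}) := by
        refine hreg i _ ?_
        rw [← neg_neg (x i * a i), ← hlc]
        exact neg_mem ((Finsupp.mem_span_image_iff_linearCombination R).2 ⟨x₀, hmem₀, rfl⟩)
      obtain ⟨y, hy, hya⟩ := (Finsupp.mem_span_image_iff_linearCombination R).1 hspan
      let T : Fin n →₀ R := Finsupp.linearCombination R a y • Finsupp.single i 1 -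
        Finsupp.linearCombination R a (Finsupp.single i 1) • y
      have hT : T ∈ koszul a := Submodule.subset_span ⟨y, Finsupp.single i 1, rfl⟩
      have hTi : T = Finsupp.single i (x i) - a i • y := by
        simp [T, hya, Finsupp.linearCombination_single]
      have hlcT : Finsupp.linearCombination R a T = 0 := by
        simp only [T, map_sub, map_smul, smul_eq_mul]
        ring
      have hrest : x - T ∈ koszul a := by
        refine ih (x - T) (fun j hj => ?_) (by rw [map_sub, hx, hlcT, sub_zero])
        have hyj : y j = 0 := (Finsupp.mem_supported' R y).1 hy j (not_lt.2 hj)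
        have hxj : x j - Finsupp.single i (x i) j = 0 := hx₀ j hj
        rw [hTi, Finsupp.sub_apply, Finsupp.sub_apply, Finsupp.smul_apply, hyj, smul_zero, sub_zero, hxj]
      have := add_mem hrest hT
      rwa [sub_add_cancel] at this
    · exact ih x (fun j hj => absurd j.2 (by omega)) hx

end CotT85
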