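import Groth.Agent.CotT85.Compare
import Groth.Agent.CotT85.Koszul
import Groth.Agent.CotT85.L2

/-!
# The functors `Tⁱ` of a polynomial algebra and of a quotient by a regular sequence
-/

set_option autoImplicit false

universe u v w t m

open TensorProduct

noncomputable section

namespace CotT85

section Poly

variable {A : Type u} {B : Type v} {κ : Type w} [CommRing A] [CommRing B] [Algebra A B]

/-- The presentation without relations of an algebra isomorphic to a polynomial ring. -/
def polyPres (e : MvPolynomial κ A ≃ₐ[A] B) : Algebra.Presentation A B κ PEmpty.{t + 1} where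
  __ := Algebra.Generators.ofSurjective (fun j => e (MvPolynomial.X j)) (by
    rw [show MvPolynomial.aeval (fun j => e (MvPolynomial.X j)) = e.toAlgHom from
      MvPolynomial.algHom_ext (fun j => by simp)]
    exact e.surjective)
  relation := PEmpty.elim
  span_range_relation_eq_ker := by
    rw [Set.range_eq_empty, Ideal.span_empty, Algebra.Generators.ker_eq_ker_aeval_val, eq_comm,
      ← RingHom.injective_iff_ker_eq_bot]
    have : MvPolynomial.aeval (fun j => e (MvPolynomial.X j)) = e.toAlgHom :=
      MvPolynomial.algHom_ext (fun j => by simp)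
    intro p q hpq
    refine e.injective ?_
    change MvPolynomial.aeval (fun j => e (MvPolynomial.X j)) p =
      MvPolynomial.aeval (fun j => e (MvPolynomial.X j)) q at hpq
    rwa [this] at hpq

lemma subsingleton_L1_of_isEmpty {ι : Type w} {σ : Type t} [IsEmpty σ]
    (P : Algebra.Presentation A B ι σ) : Subsingleton (CotT.L1 P) := by
  refine subsingleton_of_forall_eq 0 fun z => ?_
  obtain ⟨f, rfl⟩ := exists_one_tmul_eq P z
  rw [show f = 0 from Finsupp.ext fun s => isEmptyElim s, tmul_zero]

lemma subsingleton_L2_of_isEmpty {ι : Type w} {σ : Type t} [IsEmpty σ]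
    (P : Algebra.Presentation A B ι σ) : Subsingleton (CotT.L2 P) := by
  rw [subsingleton_L2_iff]
  intro f _
  rw [show f = 0 from Finsupp.ext fun s => isEmptyElim s]
  exact zero_mem _

lemma subsingleton_T2_of_L2 {ι : Type w} {σ : Type t} (P : Algebra.Presentation A B ι σ)
    [Subsingleton (CotT.L2 P)] (M : Type m) [AddCommGroup M] [Module B M] :
    Subsingleton (CotT.T2 P M) := by
  haveI : Subsingleton (CotT.L2 P →ₗ[B] M) :=
    ⟨fun f g => LinearMap.ext fun x => by rw [Subsingleton.elim x 0, map_zero, map_zero]⟩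
  infer_instance

lemma subsingleton_T1_of_L1 {ι : Type w} {σ : Type t} (P : Algebra.Presentation A B ι σ)
    [Subsingleton (CotT.L1 P)] (M : Type m) [AddCommGroup M] [Module B M] :
    Subsingleton (CotT.T1 P M) := by
  haveI : Subsingleton (CotT.L1 P →ₗ[B] M) :=
    ⟨fun f g => LinearMap.ext fun x => by rw [Subsingleton.elim x 0, map_zero, map_zero]⟩
  infer_instance

theorem subsingleton_T1_T2_of_poly {ι : Type w} {σ : Type t} (P : Algebra.Presentation A B ι σ)
    (e : MvPolynomial κ A ≃ₐ[A] B) (M : Type m) [AddCommGroup M] [Module B M] :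
    Subsingleton (CotT.T1 P M) ∧ Subsingleton (CotT.T2 P M) := by
  haveI := subsingleton_L1_of_isEmpty (polyPres.{u, v, w, t} e)
  haveI := subsingleton_L2_of_isEmpty (polyPres.{u, v, w, t} e)
  haveI := subsingleton_T1_of_L1 (polyPres.{u, v, w, t} e) M
  haveI := subsingleton_T2_of_L2 (polyPres.{u, v, w, t} e) M
  exact ⟨(T1equiv M P (polyPres.{u, v, w, t} e)).toEquiv.subsingleton,
    (T2equiv M P (polyPres.{u, v, w, t} e)).toEquiv.subsingleton⟩

end Poly

section Surj

variable {A : Type u} {B : Type v} [CommRing A] [CommRing B] [Algebra A B]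

/-- The presentation without variables of a quotient algebra. -/
def surjPres {σ : Type t} (hs : Function.Surjective (algebraMap A B)) (a : σ → A)
    (ha : Ideal.span (Set.range a) = RingHom.ker (algebraMap A B)) :
    Algebra.Presentation A B PEmpty.{w + 1} σ where
  __ := Algebra.Generators.ofSurjectiveAlgebraMap hs
  relation s := MvPolynomial.C (a s)
  span_range_relation_eq_ker := by
    rw [Algebra.Generators.ker_eq_ker_aeval_val]
    refine le_antisymm (Ideal.span_le.2 ?_) fun p hp => ?_
    · rintro _ ⟨s, rfl⟩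
      rw [SetLike.mem_coe, RingHom.mem_ker, MvPolynomial.aeval_C]
      exact ha.le (Ideal.subset_span ⟨s, rfl⟩)
    · obtain ⟨r, rfl⟩ := MvPolynomial.C_surjective PEmpty p
      rw [RingHom.mem_ker, MvPolynomial.aeval_C] at hp
      have hr : r ∈ Ideal.span (Set.range a) := by
        rw [ha]
        exact hp
      have := Ideal.mem_map_of_mem (MvPolynomial.C : A →+* MvPolynomial PEmpty A) hr
      rwa [Ideal.map_span, ← Set.range_comp] at this

lemma span_range_getElem (rs : List A) :
    Ideal.span (Set.range fun i : Fin rs.length => rs[i]) = Ideal.ofList rs := by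
  rw [Ideal.ofList]
  congr 1
  ext x
  exact List.mem_iff_get.symm

/-- The presentation of a quotient by a list. -/
def listPres (hs : Function.Surjective (algebraMap A B)) (rs : List A)
    (hI : RingHom.ker (algebraMap A B) = Ideal.ofList rs) :
    Algebra.Presentation A B PEmpty.{1} (Fin rs.length) :=
  surjPres hs (fun i => rs[i]) ((span_range_getElem rs).trans hI.symm)

theorem subsingleton_L2_listPres (hs : Function.Surjective (algebraMap A B)) (rs : List A)
    (hreg : RingTheory.Sequence.IsWeaklyRegular A rs)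
    (hI : RingHom.ker (algebraMap A B) = Ideal.ofList rs) :
    Subsingleton (CotT.L2 (listPres hs rs hI)) := by
  let Q := listPres hs rs hI
  change Subsingleton (CotT.L2 Q)
  rw [subsingleton_L2_iff]
  intro x hx
  refine mem_koszul_of_weaklyRegular (CotT.rel Q) (fun i r hr => ?_) x hx
  let φ : MvPolynomial PEmpty A ≃+* A := (MvPolynomial.isEmptyAlgEquiv A PEmpty).toRingEquiv
  have hφ : ∀ j, φ (CotT.rel Q j) = rs[j] := fun j => by
    change (MvPolynomial.isEmptyAlgEquiv A PEmpty) (MvPolynomial.C rs[j]) = rs[j]
    exact (MvPolynomial.isEmptyAlgEquiv A PEmpty).commutes _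
  have himg : Ideal.map φ (Ideal.span (CotT.rel Q '' {j | j < i})) = Ideal.ofList (rs.take i) := by
    rw [Ideal.ofList]
    erw [Ideal.map_span]
    congr 1
    ext y
    rw [Set.mem_setOf_eq, List.mem_take_iff_getElem]
    constructor
    · rintro ⟨_, ⟨j, hj, rfl⟩, rfl⟩
      have hj' : (j : ℕ) < i := hj
      exact ⟨j, by omega, (hφ j).symm⟩
    · rintro ⟨j, hj, rfl⟩
      exact ⟨_, ⟨⟨j, by omega⟩, show j < (i : ℕ) by omega, rfl⟩, hφ _⟩
  have h1 : φ r * rs[i] ∈ Ideal.ofList (rs.take i) := by
    rw [← himg, ← hφ i]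
    erw [← map_mul φ]
    exact Ideal.mem_map_of_mem _ hr
  have hreg' : IsSMulRegular (A ⧸ (Ideal.ofList (rs.take i) • ⊤ : Submodule A A)) rs[i] :=
    hreg.regular_mod_prev i i.2
  have htop : (Ideal.ofList (rs.take i) • ⊤ : Submodule A A) = Ideal.ofList (rs.take i) := by
    rw [smul_eq_mul, Ideal.mul_top]
  have h2 : φ r ∈ Ideal.ofList (rs.take i) := by
    rw [← htop] at h1 ⊢
    rw [← Submodule.Quotient.mk_eq_zero] at h1 ⊢
    refine hreg' ?_
    dsimp only
    rw [smul_zero, ← h1, ← Submodule.Quotient.mk_smul]
    exact congrArg _ ((smul_eq_mul _ _).trans (mul_comm _ _))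
  rw [← himg] at h2
  obtain ⟨z, hz, hzr⟩ := (Ideal.mem_map_iff_of_surjective φ φ.surjective).1 h2
  rwa [← φ.injective hzr]

theorem subsingleton_T2_of_weaklyRegular {ι : Type w} {σ : Type t} (P : Algebra.Presentation A B ι σ)
    (hs : Function.Surjective (algebraMap A B)) (rs : List A)
    (hreg : RingTheory.Sequence.IsWeaklyRegular A rs)
    (hI : RingHom.ker (algebraMap A B) = Ideal.ofList rs) (M : Type m) [AddCommGroup M] [Module B M] :
    Subsingleton (CotT.T2 P M) := by
  haveI := subsingleton_L2_listPres hs rs hreg hI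
  haveI := subsingleton_T2_of_L2 (listPres hs rs hI) M
  exact (T2equiv M P (listPres hs rs hI)).toEquiv.subsingleton

end Surj

end CotT85
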