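import Mathlib.RingTheory.Regular.RegularSequence
import Mathlib.RingTheory.Nakayama
import Groth.Agent.CotT85.Vanishing
import Groth.Agent.CotT85.Criterion

/-!
# A quotient of a Noetherian local ring with vanishing `T²` is cut out by a regular sequence
-/

set_option autoImplicit false

universe u

open TensorProduct IsLocalRing

noncomputable section

namespace CotT85

variable {A : Type u} [CommRing A]

section Fin

variable {n : ℕ} (a : Fin n → A)

/-- The span of the trivial relations among `a`, written with basic relations. -/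
def kz : Submodule A (Fin n → A) :=
  Submodule.span A {y | ∃ i j : Fin n, y = a i • Pi.single j 1 - a j • Pi.single i 1}

lemma triv_mem_kz (x z : Fin n → A) :
    (∑ i, x i * a i) • z - (∑ i, z i * a i) • x ∈ kz a := by
  have h : (∑ i, x i * a i) • z - (∑ i, z i * a i) • x =
      ∑ i, ∑ j, (x i * z j) • (a i • (Pi.single j 1 : Fin n → A) - a j • Pi.single i 1) := by
    funext l
    simp only [Pi.sub_apply, Pi.smul_apply, smul_eq_mul, Finset.sum_apply, mul_sub, Finset.sum_sub_distrib]
    congr 1
    · rw [Finset.sum_mul]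
      refine Finset.sum_congr rfl fun i _ => ?_
      rw [Finset.sum_eq_single l]
      · rw [Pi.single_eq_same]; ring
      · intro j _ hj; rw [Pi.single_eq_of_ne (Ne.symm hj)]; ring
      · intro h; exact absurd (Finset.mem_univ l) h
    · rw [Finset.sum_mul, Finset.sum_comm]
      refine Finset.sum_congr rfl fun j _ => ?_
      rw [Finset.sum_eq_single l]
      · rw [Pi.single_eq_same]; ring
      · intro i _ hi; rw [Pi.single_eq_of_ne (Ne.symm hi)]; ring
      · intro h; exact absurd (Finset.mem_univ l) h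
  rw [h]
  exact Submodule.sum_mem _ fun i _ => Submodule.sum_mem _ fun j _ =>
    Submodule.smul_mem _ _ (Submodule.subset_span ⟨i, j, rfl⟩)

/-- The relations among `a`. -/
def rels : Submodule A (Fin n → A) where
  carrier := {x | ∑ i, x i * a i = 0}
  zero_mem' := by simp
  add_mem' := fun {x y} hx hy => by
    change ∑ i, (x + y) i * a i = 0
    simp only [Pi.add_apply, add_mul, Finset.sum_add_distrib]
    rw [show ∑ i, x i * a i = 0 from hx, show ∑ i, y i * a i = 0 from hy, add_zero]
  smul_mem' := fun c {x} hx => by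
    change ∑ i, (c • x) i * a i = 0
    simp only [Pi.smul_apply, smul_eq_mul, mul_assoc, ← Finset.mul_sum]
    rw [show ∑ i, x i * a i = 0 from hx, mul_zero]

lemma mem_rels {x : Fin n → A} : x ∈ rels a ↔ ∑ i, x i * a i = 0 := Iff.rfl

lemma kz_le_rels : kz a ≤ rels a := by
  refine Submodule.span_le.2 ?_
  rintro _ ⟨i, j, rfl⟩
  change ∑ l, _ = (0 : A)
  simp only [Pi.sub_apply, Pi.smul_apply, smul_eq_mul, sub_mul, Finset.sum_sub_distrib]
  rw [Finset.sum_eq_single j (fun l _ hl => by rw [Pi.single_eq_of_ne hl]; ring)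
      (fun h => absurd (Finset.mem_univ j) h),
    Finset.sum_eq_single i (fun l _ hl => by rw [Pi.single_eq_of_ne hl]; ring)
      (fun h => absurd (Finset.mem_univ i) h), Pi.single_eq_same, Pi.single_eq_same]
  ring

/-- Dropping the last entry: trivial relations split into trivial ones and a multiple of a relation by the last term. -/
lemma kz_snoc {b : A} {y : Fin (n + 1) → A} (hy : y ∈ kz (Fin.snoc a b)) :
    ∃ c t, t ∈ kz a ∧ Fin.init y = t - b • c ∧ y (Fin.last n) = ∑ i, c i * a i := by
  induction hy using Submodule.span_induction with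
  | mem y hy =>
    obtain ⟨i, j, rfl⟩ := hy
    induction i using Fin.lastCases with
    | last =>
      induction j using Fin.lastCases with
      | last =>
        refine ⟨0, 0, zero_mem _, ?_, by simp⟩
        funext l
        simp [Fin.init]
      | cast j =>
        refine ⟨-Pi.single j 1, 0, zero_mem _, ?_, ?_⟩
        · funext l
          by_cases hl : l = j
          · subst hl; simp [Fin.init, Fin.snoc_castSucc, Fin.snoc_last]
          · simp [Fin.init, Fin.snoc_castSucc, Fin.snoc_last, hl]
        · simp [Fin.snoc_castSucc, Pi.single_apply, Fin.castSucc_ne_last, (Fin.castSucc_ne_last j).symm]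
    | cast i =>
      induction j using Fin.lastCases with
      | last =>
        refine ⟨Pi.single i 1, 0, zero_mem _, ?_, ?_⟩
        · funext l
          by_cases hl : l = i
          · subst hl; simp [Fin.init, Fin.snoc_castSucc, Fin.snoc_last]
          · simp [Fin.init, Fin.snoc_castSucc, Fin.snoc_last, hl]
        · simp [Fin.snoc_castSucc, Pi.single_apply, Fin.castSucc_ne_last, (Fin.castSucc_ne_last i).symm]
      | cast j =>
        refine ⟨0, a i • Pi.single j 1 - a j • Pi.single i 1, Submodule.subset_span ⟨i, j, rfl⟩, ?_, ?_⟩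
        · funext l
          simp [Fin.init, Fin.snoc_castSucc, Pi.single_apply]
        · simp [Fin.snoc_castSucc, Pi.single_apply, (Fin.castSucc_ne_last i).symm,
            (Fin.castSucc_ne_last j).symm]
  | zero => exact ⟨0, 0, zero_mem _, by funext l; simp [Fin.init], by simp⟩
  | add x y _ _ hx hy =>
    obtain ⟨c, t, ht, e, e'⟩ := hx
    obtain ⟨c', t', ht', f, f'⟩ := hy
    refine ⟨c + c', t + t', add_mem ht ht', ?_, ?_⟩
    · funext l
      have h1 := congrFun e l
      have h2 := congrFun f l
      simp only [Fin.init, Pi.sub_apply, Pi.smul_apply, smul_eq_mul] at h1 h2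
      simp only [Fin.init, Pi.add_apply, Pi.sub_apply, Pi.smul_apply, smul_eq_mul, h1, h2]
      ring
    · simp only [Pi.add_apply, add_mul, Finset.sum_add_distrib, e', f']
  | smul r x _ hx =>
    obtain ⟨c, t, ht, e, e'⟩ := hx
    refine ⟨r • c, r • t, Submodule.smul_mem _ _ ht, ?_, ?_⟩
    · funext l
      have h1 := congrFun e l
      simp only [Fin.init, Pi.sub_apply, Pi.smul_apply, smul_eq_mul] at h1
      simp only [Fin.init, Pi.sub_apply, Pi.smul_apply, smul_eq_mul, h1]
      ring
    · simp only [Pi.smul_apply, smul_eq_mul, mul_assoc, ← Finset.mul_sum, e']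

end Fin

/-- If all relations among elements of the maximal ideal are trivial, they form a regular family. -/
theorem regular_of_rels_le [IsLocalRing A] [IsNoetherianRing A] : ∀ {n : ℕ} (a : Fin n → A),
    (∀ i, a i ∈ maximalIdeal A) → rels a ≤ kz a →
      ∀ i : Fin n, ∀ r : A, r * a i ∈ Ideal.span (a '' {j | j < i}) → r ∈ Ideal.span (a '' {j | j < i}) := by
  intro n
  induction n with
  | zero => exact fun _ _ _ i => i.elim0
  | succ n ih =>
    intro a' hm hrel
    obtain ⟨a, b, rfl⟩ : ∃ a b, a' = Fin.snoc a b :=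
      ⟨Fin.init a', a' (Fin.last n), (Fin.snoc_init_self a').symm⟩
    have hb : b ∈ maximalIdeal A := by simpa using hm (Fin.last n)
    have hsum : ∀ (x : Fin n → A) (r : A),
        ∑ i, (Fin.snoc x r : Fin (n + 1) → A) i * (Fin.snoc a b : Fin (n + 1) → A) i =
          (∑ i, x i * a i) + r * b := by
      intro x r
      rw [Fin.sum_univ_castSucc]
      simp only [Fin.snoc_castSucc, Fin.snoc_last]
    -- relations among the first elements are trivial, by Nakayama
    have hle : rels a ≤ kz a ⊔ maximalIdeal A • rels a := by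
      intro x hx
      have hx' : (Fin.snoc x 0 : Fin (n + 1) → A) ∈ rels (Fin.snoc a b) := by
        rw [mem_rels, hsum, (mem_rels a).1 hx, zero_mul, add_zero]
      obtain ⟨c, t, ht, e, e'⟩ := kz_snoc a (hrel hx')
      have hc : c ∈ rels a := by
        rw [mem_rels, ← e', Fin.snoc_last]
      rw [show x = t + (-b) • c from by
        rw [Fin.init_snoc] at e
        rw [e, neg_smul, sub_eq_add_neg]]
      exact Submodule.add_mem_sup ht (Submodule.smul_mem_smul (neg_mem hb) hc)
    have hfg : (rels a).FG := IsNoetherian.noetherian _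
    have hrel' : rels a ≤ kz a :=
      Submodule.le_of_le_smul_of_le_jacobson_bot hfg (maximalIdeal_le_jacobson ⊥) hle
    have him : ∀ i : Fin n, (Fin.snoc a b : Fin (n + 1) → A) '' {j | j < Fin.castSucc i} = a '' {j | j < i} := by
      intro i
      ext y
      constructor
      · rintro ⟨j, hj, rfl⟩
        obtain ⟨l, rfl⟩ : ∃ l : Fin n, Fin.castSucc l = j :=
          ⟨⟨j, lt_trans (Fin.lt_def.1 hj) i.2⟩, rfl⟩
        exact ⟨l, Fin.castSucc_lt_castSucc_iff.1 hj, by rw [Fin.snoc_castSucc]⟩
      · rintro ⟨l, hl, rfl⟩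
        exact ⟨Fin.castSucc l, Fin.castSucc_lt_castSucc_iff.2 hl, by rw [Fin.snoc_castSucc]⟩
    intro i r hr
    induction i using Fin.lastCases with
    | cast i =>
      rw [him] at hr ⊢
      rw [Fin.snoc_castSucc] at hr
      exact ih a (fun l => by simpa using hm (Fin.castSucc l)) hrel' i r hr
    | last =>
      have hlast : (Fin.snoc a b : Fin (n + 1) → A) '' {j | j < Fin.last n} = Set.range a := by
        ext y
        constructor
        · rintro ⟨j, hj, rfl⟩
          obtain ⟨l, rfl⟩ : ∃ l : Fin n, Fin.castSucc l = j := ⟨⟨j, hj⟩, rfl⟩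
          exact ⟨l, by rw [Fin.snoc_castSucc]⟩
        · rintro ⟨l, rfl⟩
          exact ⟨Fin.castSucc l, Fin.castSucc_lt_last l, by rw [Fin.snoc_castSucc]⟩
      rw [hlast] at hr ⊢
      rw [Fin.snoc_last] at hr
      obtain ⟨y, hy⟩ := Ideal.mem_span_range_iff_exists_fun.1 hr
      have hx' : (Fin.snoc y (-r) : Fin (n + 1) → A) ∈ rels (Fin.snoc a b) := by
        rw [mem_rels, hsum, hy]
        ring
      obtain ⟨c, t, -, -, e'⟩ := kz_snoc a (hrel hx')
      rw [Fin.snoc_last] at e'
      rw [← neg_neg r, e']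
      exact neg_mem (Submodule.sum_mem _ fun l _ => Ideal.mul_mem_left _ _ (Ideal.subset_span ⟨l, rfl⟩))

theorem isWeaklyRegular_of_fin {n : ℕ} (a : Fin n → A)
    (h : ∀ i : Fin n, ∀ r : A, r * a i ∈ Ideal.span (a '' {j | j < i}) → r ∈ Ideal.span (a '' {j | j < i})) :
    RingTheory.Sequence.IsWeaklyRegular A (List.ofFn a) := by
  refine ⟨fun i hi => ?_⟩
  rw [List.length_ofFn] at hi
  have himg : Ideal.ofList ((List.ofFn a).take i) = Ideal.span (a '' {j | j < ⟨i, hi⟩}) := by
    rw [Ideal.ofList]
    congr 1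
    ext y
    rw [Set.mem_setOf_eq, List.mem_take_iff_getElem]
    constructor
    · rintro ⟨j, hj, rfl⟩
      refine ⟨⟨j, by omega⟩, show j < i by omega, ?_⟩
      rw [List.getElem_ofFn]
    · rintro ⟨j, hj, rfl⟩
      have hj' : (j : ℕ) < i := hj
      exact ⟨j, by rw [List.length_ofFn]; omega, by rw [List.getElem_ofFn]⟩
  have htop : (Ideal.ofList ((List.ofFn a).take i) • ⊤ : Submodule A A) =
      Ideal.ofList ((List.ofFn a).take i) := by
    rw [smul_eq_mul, Ideal.mul_top]
  rw [isSMulRegular_quotient_iff_mem_of_smul_mem]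
  intro x hx
  rw [htop, himg] at hx ⊢
  rw [List.getElem_ofFn, smul_eq_mul, mul_comm] at hx
  exact h ⟨i, hi⟩ x hx

/-- A generating family of an ideal whose relations all have coefficients in the maximal ideal. -/
theorem exists_minimal_generators [IsLocalRing A] [IsNoetherianRing A] (I : Ideal A) :
    ∃ (n : ℕ) (a : Fin n → A), Ideal.span (Set.range a) = I ∧
      ∀ x : Fin n → A, ∑ i, x i * a i = 0 → ∀ i, x i ∈ maximalIdeal A := by
  classical
  have hex : ∃ n, ∃ a : Fin n → A, Ideal.span (Set.range a) = I := by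
    obtain ⟨S, hS⟩ := (IsNoetherian.noetherian I : Submodule.FG _)
    refine ⟨S.card, fun i => S.equivFin.symm i, ?_⟩
    rw [← hS]
    congr 1
    ext y
    exact ⟨fun ⟨i, hi⟩ => hi ▸ (S.equivFin.symm i).2, fun hy => ⟨S.equivFin ⟨y, hy⟩, by simp⟩⟩
  obtain ⟨a, ha⟩ := Nat.find_spec hex
  generalize hn : Nat.find hex = n at a ha
  refine ⟨n, a, ha, fun x hx i => ?_⟩
  by_contra hu
  rw [IsLocalRing.mem_maximalIdeal, mem_nonunits_iff, not_not] at hu
  obtain ⟨v, hv⟩ := hu.exists_left_inv
  cases n with
  | zero => exact i.elim0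
  | succ m =>
    refine Nat.find_min hex (show m < Nat.find hex by omega) ⟨fun j => a (i.succAbove j), ?_⟩
    rw [← ha]
    refine le_antisymm (Ideal.span_mono (fun y ⟨j, hj⟩ => ⟨_, hj⟩)) (Ideal.span_le.2 ?_)
    rintro _ ⟨l, rfl⟩
    by_cases hl : l = i
    · subst hl
      have hsum := Fin.sum_univ_succAbove (fun j => x j * a j) l
      rw [hx] at hsum
      have hai : a l = -(v * ∑ j, x (l.succAbove j) * a (l.succAbove j)) := by
        linear_combination -(a l) * hv - v * hsum
      rw [hai]
      exact neg_mem (Ideal.mul_mem_left _ _ (Submodule.sum_mem _ fun j _ =>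
        Ideal.mul_mem_left _ _ (Ideal.subset_span ⟨j, rfl⟩)))
    · obtain ⟨j, rfl⟩ := Fin.exists_succAbove_eq hl
      exact Ideal.subset_span ⟨j, rfl⟩

section Minimal

/-- If every map to `X/𝔪X` factors through `d`, and `d` has image in `𝔪Y`, then `X = 𝔪X`. -/
lemma mem_smul_top_of_factor {B : Type*} [CommRing B] {X Y : Type*} [AddCommGroup X] [Module B X]
    [AddCommGroup Y] [Module B Y] (𝔪 : Ideal B) (d : X →ₗ[B] Y) (hd : ∀ x, d x ∈ (𝔪 • ⊤ : Submodule B Y))
    (hfac : ∀ ψ : X →ₗ[B] X ⧸ (𝔪 • ⊤ : Submodule B X), ∃ φ, φ ∘ₗ d = ψ) (x : X) :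
    x ∈ (𝔪 • ⊤ : Submodule B X) := by
  obtain ⟨φ, hφ⟩ := hfac (Submodule.mkQ _)
  refine (Submodule.Quotient.mk_eq_zero _).1 ?_
  rw [← Submodule.mkQ_apply, ← hφ, LinearMap.comp_apply]
  refine Submodule.smul_induction_on (hd x) (fun r hr y _ => ?_) (fun y z hy hz => ?_)
  · obtain ⟨w, hw⟩ := Submodule.Quotient.mk_surjective _ (φ y)
    rw [map_smul, ← hw, ← Submodule.Quotient.mk_smul, Submodule.Quotient.mk_eq_zero]
    exact Submodule.smul_mem_smul hr trivial
  · rw [map_add, hy, hz, add_zero]

variable {B : Type u} [CommRing B] [Algebra A B] {ι : Type} {σ : Type} [Finite σ]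

/-- If the presentation is minimal and `T²` vanishes, then `L₂ = 0`. -/
theorem subsingleton_L2_of_minimal (Q : Algebra.Presentation A B ι σ) [IsNoetherianRing Q.toExtension.Ring]
    (𝔪 : Ideal B) (hjac : 𝔪 ≤ Ideal.jacobson ⊥)
    (hmin : ∀ q : CotT.relKer Q, ∀ s, algebraMap Q.toExtension.Ring B ((q : CotT.relMod Q) s) ∈ 𝔪)
    (hT : ∀ (M : Type u) [AddCommGroup M] [Module B M], Subsingleton (CotT.T2 Q M)) :
    Subsingleton (CotT.L2 Q) := by
  have hd : ∀ z : CotT.L2 Q, CotT.d2 Q z ∈ (𝔪 • ⊤ : Submodule B (CotT.L1 Q)) := by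
    intro z
    obtain ⟨q, rfl⟩ := mk2_surjective Q z
    rw [d2_mk2, ← Finsupp.sum_single (q : CotT.relMod Q), Finsupp.sum, tmul_sum]
    refine Submodule.sum_mem _ fun i _ => ?_
    rw [← mul_one ((q : CotT.relMod Q) i), ← smul_eq_mul, ← Finsupp.smul_single, ← tmul_eq_one_tmul_smul Q,
      ← mul_one (algebraMap Q.toExtension.Ring B ((q : CotT.relMod Q) i)), ← smul_eq_mul, ← TensorProduct.smul_tmul']
    exact Submodule.smul_mem_smul (hmin q i) trivial
  have hL2 := mem_smul_top_of_factor 𝔪 (CotT.d2 Q) hd (fun ψ => by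
    have := hT (CotT.L2 Q ⧸ (𝔪 • ⊤ : Submodule B (CotT.L2 Q)))
    obtain ⟨φ₀, hφ₀⟩ := (Submodule.Quotient.mk_eq_zero
      (p := LinearMap.range (CotT.d2Star Q _)) (x := ψ)).1 (Subsingleton.elim _ _)
    exact ⟨φ₀, hφ₀⟩)
  have : Module.Finite Q.toExtension.Ring (CotT.relKer Q) :=
    Module.Finite.iff_fg.2 (IsNoetherian.noetherian _)
  have hzero : (⊤ : Submodule B (CotT.L2 Q)) = ⊥ :=
    Submodule.eq_bot_of_le_smul_of_le_jacobson_bot 𝔪 ⊤ Module.Finite.fg_top (fun z _ => hL2 z) hjac
  exact (Submodule.subsingleton_iff B).1 (subsingleton_of_bot_eq_top hzero.symm)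

end Minimal

section Quotient

variable [IsLocalRing A] [IsNoetherianRing A] {B : Type u} [CommRing B] [Algebra A B]

lemma jmap_surjPres {n : ℕ} (hs : Function.Surjective (algebraMap A B)) (a : Fin n → A)
    (ha : Ideal.span (Set.range a) = RingHom.ker (algebraMap A B))
    (φ' : (surjPres.{u, u, 0, 0} hs a ha).toExtension.Ring →+* A)
    (hφC : ∀ r, φ' (rC _ r) = r) (q : CotT.relMod (surjPres.{u, u, 0, 0} hs a ha)) :
    φ' (CotT.jmap _ q) = ∑ i, φ' (q i) * a i := by
  induction q using Finsupp.induction_linear with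
  | zero => simp
  | add f g hf hg =>
    rw [map_add, map_add, hf, hg, ← Finset.sum_add_distrib]
    exact Finset.sum_congr rfl fun i _ => by rw [Finsupp.add_apply, map_add, add_mul]
  | single s r =>
    rw [CotT.jmap_single, map_mul, Finset.sum_eq_single s (fun i _ hi => by
        rw [Finsupp.single_eq_of_ne hi, map_zero, zero_mul])
      (fun h => absurd (Finset.mem_univ s) h), Finsupp.single_eq_same]
    exact congrArg _ (hφC (a s))

/-- If `T²(B/A, M) = 0` for all `M`, the kernel of the surjection `A → B` is generated by a weakly regular sequence. -/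
theorem exists_weaklyRegular_of_T2 {ι σ : Type u} (P : Algebra.Presentation A B ι σ)
    (hs : Function.Surjective (algebraMap A B)) (hI : RingHom.ker (algebraMap A B) ≤ maximalIdeal A)
    (hT : ∀ (M : Type u) [AddCommGroup M] [Module B M], Subsingleton (CotT.T2 P M)) :
    ∃ rs : List A, RingTheory.Sequence.IsWeaklyRegular A rs ∧
      RingHom.ker (algebraMap A B) = Ideal.ofList rs := by
  obtain ⟨n, a, ha, hmin⟩ := exists_minimal_generators (RingHom.ker (algebraMap A B))
  let Q : Algebra.Presentation A B PEmpty.{1} (Fin n) := surjPres hs a ha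
  let φ : MvPolynomial PEmpty.{1} A ≃+* A := (MvPolynomial.isEmptyAlgEquiv A PEmpty).toRingEquiv
  let φ' : Q.toExtension.Ring →+* A := φ.toRingHom
  have hφC : ∀ r, φ' (rC Q r) = r := fun r => (MvPolynomial.isEmptyAlgEquiv A PEmpty).commutes r
  have hbij : Function.Bijective φ' := φ.bijective
  have hjmap : ∀ q : CotT.relMod Q, φ' (CotT.jmap Q q) = ∑ i, φ' (q i) * a i :=
    jmap_surjPres hs a ha φ' hφC
  have hB : ∀ r, algebraMap Q.toExtension.Ring B r = algebraMap A B (φ' r) := by
    intro r
    obtain ⟨r, rfl⟩ : ∃ y, rC Q y = r := MvPolynomial.C_surjective (R := A) PEmpty r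
    rw [hφC, rC_eq_algebraMap, ← IsScalarTower.algebraMap_apply]
  have : IsNoetherianRing Q.toExtension.Ring := isNoetherianRing_of_ringEquiv A φ.symm
  have hjac : (maximalIdeal A).map (algebraMap A B) ≤ Ideal.jacobson ⊥ := by
    have : Nontrivial B := not_subsingleton_iff_nontrivial.1 fun hsub => (maximalIdeal.isMaximal A).ne_top
      ((Ideal.eq_top_iff_one _).2 (hI (RingHom.mem_ker.2 (Subsingleton.elim _ _))))
    have : IsLocalRing B := IsLocalRing.of_surjective' (algebraMap A B) hs
    refine le_trans ?_ (IsLocalRing.maximalIdeal_le_jacobson ⊥)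
    refine IsLocalRing.le_maximalIdeal fun h => ?_
    obtain ⟨x, hx, hx1⟩ := (Ideal.mem_map_iff_of_surjective _ hs).1 ((Ideal.eq_top_iff_one _).1 h)
    refine (maximalIdeal.isMaximal A).ne_top ((Ideal.eq_top_iff_one _).2 ?_)
    have h1 : (1 : A) - x ∈ maximalIdeal A := hI (by rw [RingHom.mem_ker, map_sub, map_one, hx1, sub_self])
    have := add_mem h1 hx
    rwa [sub_add_cancel] at this
  have : Subsingleton (CotT.L2 Q) := by
    refine subsingleton_L2_of_minimal Q _ hjac (fun q s => ?_) (fun M _ _ => ?_)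
    · rw [hB]
      refine Ideal.mem_map_of_mem _ (hmin (fun j => φ' ((q : CotT.relMod Q) j)) ?_ s)
      rw [← hjmap, show CotT.jmap Q (q : CotT.relMod Q) = 0 from q.2, map_zero]
    · have := hT M
      exact (T2equiv M Q P).toEquiv.subsingleton
  have hle := (subsingleton_L2_iff Q).1 this
  have hconv : ∀ y ∈ CotT.trivRel Q, (fun i => φ' (y i)) ∈ kz a := by
    intro y hy
    induction hy using Submodule.span_induction with
    | mem y hy =>
      obtain ⟨u, v, rfl⟩ := hy
      have := triv_mem_kz a (fun i => φ' (u i)) (fun i => φ' (v i))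
      convert this using 1
      funext i
      simp only [Finsupp.sub_apply, Finsupp.smul_apply, smul_eq_mul, map_sub, map_mul, hjmap,
        Pi.sub_apply, Pi.smul_apply]
    | zero =>
      convert zero_mem (kz a) using 1
      funext i
      rw [Finsupp.zero_apply, map_zero, Pi.zero_apply]
    | add u v _ _ hu hv =>
      convert add_mem hu hv using 1
      funext i
      rw [Finsupp.add_apply, map_add, Pi.add_apply]
    | smul r u _ hu =>
      convert Submodule.smul_mem _ (φ' r) hu using 1
      funext i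
      rw [Finsupp.smul_apply, smul_eq_mul, map_mul, Pi.smul_apply, smul_eq_mul]
  have hrels : rels a ≤ kz a := by
    intro x hx
    let q : CotT.relMod Q := Finsupp.equivFunOnFinite.symm fun i => rC Q (x i)
    have hq : q ∈ CotT.relKer Q := by
      refine hbij.1 ?_
      rw [map_zero, hjmap]
      refine Eq.trans (Finset.sum_congr rfl fun i _ => ?_) hx
      rw [show q i = rC Q (x i) from rfl, hφC]
    convert hconv q (hle hq) using 1
    funext i
    exact (hφC (x i)).symm
  refine ⟨List.ofFn a, isWeaklyRegular_of_fin a (regular_of_rels_le a (fun i => hI (ha.le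
    (Ideal.subset_span ⟨i, rfl⟩))) hrels), ?_⟩
  rw [← ha, Ideal.ofList]
  congr 1
  ext y
  exact List.mem_ofFn.symm

end Quotient

end CotT85
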