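import Groth.Agent.CotT85.Compare
import Groth.Agent.CotT85.L2

/-!
# The presentation of a composite `A → B → C` and the two maps of presentations

With `R'' = A[x, y]`, the projection `L•(C/A) → L•(C/B)` is surjective in degree `2` and its kernel is generated over `C` by
the image of `L₂(B/A)`.
-/

set_option autoImplicit false

universe u

open TensorProduct

noncomputable section

namespace CotT85

variable {A B C : Type u} [CommRing A] [CommRing B] [CommRing C] [Algebra A B] [Algebra B C]
  [Algebra A C] [IsScalarTower A B C]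
variable {ι σ ι' σ' : Type u}
variable (Q : Algebra.Presentation B C ι' σ') (P : Algebra.Presentation A B ι σ)

/-- `R = A[y] → R'' = A[x, y]`. -/
def inclHom : CotT.PresHom P (Q.comp P) where
  hom := Q.toGenerators.toComp P.toGenerators
  relVal s := Finsupp.single (Sum.inr s) 1
  jmap_relVal s := by
    rw [CotT.jmap_single, one_mul]
    change (MvPolynomial.rename Sum.inr (P.relation s) : MvPolynomial (ι' ⊕ ι) A) =
      (Q.toGenerators.toComp P.toGenerators).toAlgHom (P.relation s)
    rw [Algebra.Generators.toComp_toAlgHom]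

/-- `R'' = A[x, y] → R' = B[x]`. -/
def projHom : CotT.PresHom (Q.comp P) Q where
  hom := Q.toGenerators.ofComp P.toGenerators
  relVal := Sum.elim (fun s => Finsupp.single s 1) (fun _ => 0)
  jmap_relVal s := by
    cases s with
    | inl s =>
      rw [Sum.elim_inl, CotT.jmap_single, one_mul]
      change Q.relation s = (Q.toGenerators.ofComp P.toGenerators).toAlgHom ((Q.comp P).relation (Sum.inl s))
      conv_lhs => rw [← Algebra.Presentation.comp_aeval_relation_inl Q P s]
      refine DFunLike.congr_fun (MvPolynomial.algHom_ext fun i => ?_) _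
      rw [MvPolynomial.aeval_X, Algebra.Generators.Hom.toAlgHom_X, Algebra.Generators.ofComp_val]
    | inr s =>
      rw [Sum.elim_inr, map_zero]
      change (0 : MvPolynomial ι' B) =
        (Q.toGenerators.ofComp P.toGenerators).toAlgHom (MvPolynomial.rename Sum.inr (P.relation s))
      rw [Algebra.Generators.toAlgHom_ofComp_rename]
      erw [CotT.algebraMap_rel P s]
      rw [map_zero]

lemma projHom_surjective : Function.Surjective (projHom Q P).ringHom :=
  Algebra.Generators.toAlgHom_ofComp_surjective Q.toGenerators P.toGenerators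

/-- `R''`-coefficients on the relations coming from `P`. -/
def inrMap : (σ →₀ (Q.comp P).toExtension.Ring) →ₗ[(Q.comp P).toExtension.Ring] CotT.relMod (Q.comp P) :=
  Finsupp.lmapDomain _ _ Sum.inr

/-- `R''`-coefficients on the relations coming from `Q`. -/
def inlMap : (σ' →₀ (Q.comp P).toExtension.Ring) →ₗ[(Q.comp P).toExtension.Ring] CotT.relMod (Q.comp P) :=
  Finsupp.lmapDomain _ _ Sum.inl

lemma inrMap_single (s : σ) (r : (Q.comp P).toExtension.Ring) :
    inrMap Q P (Finsupp.single s r) = Finsupp.single (Sum.inr s) r := Finsupp.mapDomain_single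

lemma inlMap_single (s : σ') (r : (Q.comp P).toExtension.Ring) :
    inlMap Q P (Finsupp.single s r) = Finsupp.single (Sum.inl s) r := Finsupp.mapDomain_single

lemma jmap_inrMap (f : σ →₀ (Q.comp P).toExtension.Ring) :
    CotT.jmap (Q.comp P) (inrMap Q P f) =
      f.sum fun s r => r * (inclHom Q P).ringHom (CotT.rel P s) := by
  induction f using Finsupp.induction_linear with
  | zero => simp
  | add f g hf hg =>
    rw [map_add, map_add, hf, hg, Finsupp.sum_add_index' (fun _ => zero_mul _) (fun _ _ _ => add_mul _ _ _)]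
  | single s r =>
    rw [inrMap_single, CotT.jmap_single, Finsupp.sum_single_index (zero_mul _)]
    congr 1
    have h := (inclHom Q P).jmap_relVal s
    change CotT.jmap (Q.comp P) (Finsupp.single (Sum.inr s) 1) = _ at h
    rw [CotT.jmap_single, one_mul] at h
    exact h

lemma exists_inl_inr (f : CotT.relMod (Q.comp P)) :
    ∃ (l : σ' →₀ (Q.comp P).toExtension.Ring) (r : σ →₀ (Q.comp P).toExtension.Ring),
      f = inlMap Q P l + inrMap Q P r := by
  induction f using Finsupp.induction_linear with
  | zero => exact ⟨0, 0, by rw [map_zero, map_zero, add_zero]⟩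
  | add f g hf hg =>
    obtain ⟨l, r, rfl⟩ := hf
    obtain ⟨l', r', rfl⟩ := hg
    exact ⟨l + l', r + r', by rw [map_add, map_add]; abel⟩
  | single s a =>
    cases s with
    | inl s => exact ⟨Finsupp.single s a, 0, by rw [inlMap_single, map_zero, add_zero]⟩
    | inr s => exact ⟨0, Finsupp.single s a, by rw [inrMap_single, map_zero, zero_add]⟩

lemma proj_relModMap_inl (l : σ' →₀ (Q.comp P).toExtension.Ring) :
    (projHom Q P).relModMap (inlMap Q P l) = Finsupp.mapRange (projHom Q P).ringHom (map_zero _) l := by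
  induction l using Finsupp.induction_linear with
  | zero => simp
  | add f g hf hg => rw [map_add, map_add, hf, hg, Finsupp.mapRange_add (map_add _)]
  | single s r =>
    rw [inlMap_single, CotT.PresHom.relModMap_single, Finsupp.mapRange_single]
    change (projHom Q P).ringHom r • Finsupp.single s 1 = _
    rw [Finsupp.smul_single, smul_eq_mul, mul_one]

lemma proj_relModMap_inr (r : σ →₀ (Q.comp P).toExtension.Ring) :
    (projHom Q P).relModMap (inrMap Q P r) = 0 := by
  induction r using Finsupp.induction_linear with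
  | zero => simp
  | add f g hf hg => rw [map_add, map_add, hf, hg, add_zero]
  | single s r =>
    rw [inrMap_single, CotT.PresHom.relModMap_single]
    exact smul_zero _

lemma incl_relModMap (g : CotT.relMod P) :
    (inclHom Q P).relModMap g = inrMap Q P (Finsupp.mapRange (inclHom Q P).ringHom (map_zero _) g) := by
  induction g using Finsupp.induction_linear with
  | zero => simp
  | add f g hf hg => rw [map_add, hf, hg, Finsupp.mapRange_add (map_add _), map_add]
  | single s r =>
    rw [CotT.PresHom.relModMap_single, Finsupp.mapRange_single, inrMap_single]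
    change (inclHom Q P).ringHom r • Finsupp.single (Sum.inr s) 1 = _
    rw [Finsupp.smul_single, smul_eq_mul, mul_one]

lemma proj_incl_relModMap (g : CotT.relMod P) :
    (projHom Q P).relModMap ((inclHom Q P).relModMap g) = 0 := by
  rw [incl_relModMap, proj_relModMap_inr]

lemma proj_relModMap_surjective : Function.Surjective (projHom Q P).relModMap := fun f => by
  obtain ⟨l, rfl⟩ := Finsupp.mapRange_surjective (α := σ') _ (map_zero _) (projHom_surjective Q P) f
  exact ⟨inlMap Q P l, proj_relModMap_inl Q P l⟩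

/-- The kernel of `R'' → R'` is generated by the relations of `P`. -/
lemma exists_jmap_inr_eq {x : (Q.comp P).toExtension.Ring} (hx : (projHom Q P).ringHom x = 0) :
    ∃ g, CotT.jmap (Q.comp P) (inrMap Q P g) = x := by
  have h1 : x ∈ P.toGenerators.ker.map (Q.toGenerators.toComp P.toGenerators).toAlgHom := by
    rw [Algebra.Generators.map_toComp_ker]
    exact hx
  have h2 : P.toGenerators.ker.map (Q.toGenerators.toComp P.toGenerators).toAlgHom =
      Submodule.span (Q.comp P).toExtension.Ring
        (Set.range fun s => (inclHom Q P).ringHom (CotT.rel P s)) := by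
    rw [← P.span_range_relation_eq_ker, Ideal.map_span, ← Set.range_comp]
    rfl
  rw [h2] at h1
  obtain ⟨g, hg⟩ := (Finsupp.mem_span_range_iff_exists_finsupp).1 h1
  refine ⟨g, ?_⟩
  rw [jmap_inrMap]
  exact hg

/-- `L₂(C/A) → L₂(C/B)` is surjective. -/
theorem proj_L2map_surjective : Function.Surjective (projHom Q P).L2map := fun z => by
  obtain ⟨q, rfl⟩ := mk2_surjective Q z
  obtain ⟨f, hf⟩ := proj_relModMap_surjective Q P (q : CotT.relMod Q)
  have h0 : (projHom Q P).ringHom (CotT.jmap (Q.comp P) f) = 0 := by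
    rw [← CotT.PresHom.jmap_relModMap, hf]
    exact q.2
  obtain ⟨g, hg⟩ := exists_jmap_inr_eq Q P h0
  refine ⟨mk2 _ ⟨f - inrMap Q P g, by
    change CotT.jmap (Q.comp P) (f - inrMap Q P g) = 0
    rw [map_sub, hg, sub_self]⟩, ?_⟩
  rw [L2map_mk2]
  refine congrArg _ (Subtype.ext ?_)
  rw [CotT.PresHom.relKerMap_coe, map_sub, proj_relModMap_inr, sub_zero, hf]

lemma exists_trivRel_lift {y : CotT.relMod Q} (hy : y ∈ CotT.trivRel Q) :
    ∃ x ∈ CotT.trivRel (Q.comp P), (projHom Q P).relModMap x = y := by
  induction hy using Submodule.span_induction with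
  | mem y hy =>
    obtain ⟨a, b, rfl⟩ := hy
    obtain ⟨a, rfl⟩ := proj_relModMap_surjective Q P a
    obtain ⟨b, rfl⟩ := proj_relModMap_surjective Q P b
    refine ⟨CotT.jmap _ a • b - CotT.jmap _ b • a, Submodule.subset_span ⟨a, b, rfl⟩, ?_⟩
    rw [map_sub, LinearMap.map_smulₛₗ, LinearMap.map_smulₛₗ, CotT.PresHom.jmap_relModMap,
      CotT.PresHom.jmap_relModMap]
  | zero => exact ⟨0, zero_mem _, map_zero _⟩
  | add x y _ _ hx hy =>
    obtain ⟨x, hx', rfl⟩ := hx
    obtain ⟨y, hy', rfl⟩ := hy
    exact ⟨x + y, add_mem hx' hy', map_add _ _ _⟩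
  | smul r x _ hx =>
    obtain ⟨x, hx', rfl⟩ := hx
    obtain ⟨r, rfl⟩ := projHom_surjective Q P r
    exact ⟨r • x, Submodule.smul_mem _ _ hx', LinearMap.map_smulₛₗ _ _ _⟩

lemma mk2_sum {κ : Type u} (S : Finset κ) (q : κ → CotT.relKer (Q.comp P)) :
    mk2 (Q.comp P) (∑ m ∈ S, q m) = ∑ m ∈ S, mk2 (Q.comp P) (q m) := by
  classical
  induction S using Finset.induction_on with
  | empty => rw [Finset.sum_empty, Finset.sum_empty, mk2_zero]
  | insert a S ha ih => rw [Finset.sum_insert ha, Finset.sum_insert ha, mk2_add, ih]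

/-- A relation among the relations of `P` with coefficients in `R''` is an `R''`-combination of relations
over `R`, as `R''` is free over `R`. -/
lemma mk2_inr_mem_span (f : σ →₀ (Q.comp P).toExtension.Ring)
    (hf : inrMap Q P f ∈ CotT.relKer (Q.comp P)) :
    mk2 (Q.comp P) ⟨inrMap Q P f, hf⟩ ∈ Submodule.span C (Set.range (inclHom Q P).L2map) := by
  classical
  let e : (Q.comp P).toExtension.Ring ≃ₐ[A] MvPolynomial ι' P.toExtension.Ring :=
    MvPolynomial.sumAlgEquiv A ι' ι
  have he : ∀ r : P.toExtension.Ring, e ((inclHom Q P).ringHom r) = MvPolynomial.C r := by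
    intro r
    induction r using ring_induction with
    | C a =>
      rw [ringHom_C]
      change (MvPolynomial.sumAlgEquiv A ι' ι) (MvPolynomial.C (algebraMap A A a)) = _
      rw [MvPolynomial.sumAlgEquiv_C_inl]
      rfl
    | add p q hp hq => rw [map_add, map_add, hp, hq, map_add]
    | mul_X p i hp =>
      rw [map_mul, map_mul, hp, map_mul, ringHom_X]
      congr 1
      exact MvPolynomial.sumAlgEquiv_X_inr A ι' ι i
  let g : (ι' →₀ ℕ) → CotT.relMod P := fun m =>
    Finsupp.mapRange (fun x => MvPolynomial.coeff m (e x)) (by rw [map_zero, MvPolynomial.coeff_zero]) f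
  have hg : ∀ m, g m ∈ CotT.relKer P := by
    intro m
    change CotT.jmap P (g m) = 0
    have h0 : e (f.sum fun s r => r * (inclHom Q P).ringHom (CotT.rel P s)) = 0 := by
      rw [← jmap_inrMap, show CotT.jmap (Q.comp P) (inrMap Q P f) = 0 from hf, map_zero]
    rw [map_finsuppSum] at h0
    have h1 := congrArg (MvPolynomial.coeff m) h0
    rw [Finsupp.sum, MvPolynomial.coeff_sum, MvPolynomial.coeff_zero] at h1
    rw [CotT.jmap, Finsupp.linearCombination_apply]
    simp only [g]
    rw [Finsupp.sum_mapRange_index (h := fun i a => a • CotT.rel P i) (fun _ => zero_smul _ _), Finsupp.sum]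
    refine Eq.trans (Finset.sum_congr rfl fun s _ => ?_) h1
    rw [map_mul, he, smul_eq_mul, mul_comm (e (f s)), MvPolynomial.coeff_C_mul, mul_comm]
  let S : Finset (ι' →₀ ℕ) := f.support.biUnion fun s => (e (f s)).support
  let c : (ι' →₀ ℕ) → (Q.comp P).toExtension.Ring := fun m => e.symm (MvPolynomial.monomial m 1)
  have hsum : (⟨inrMap Q P f, hf⟩ : CotT.relKer (Q.comp P)) =
      ∑ m ∈ S, c m • (inclHom Q P).relKerMap ⟨g m, hg m⟩ := by
    refine Subtype.ext ?_
    rw [Submodule.coe_sum]
    simp only [Submodule.coe_smul, CotT.PresHom.relKerMap_coe, incl_relModMap, ← map_smul, ← map_sum]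
    congr 1
    ext s
    rw [Finsupp.finsetSum_apply]
    simp only [Finsupp.smul_apply, Finsupp.mapRange_apply, g, smul_eq_mul]
    refine e.injective ?_
    rw [map_sum]
    simp only [map_mul, he, c, AlgEquiv.apply_symm_apply]
    rw [Finset.sum_congr rfl fun m _ => show MvPolynomial.monomial m 1 * MvPolynomial.C
      (MvPolynomial.coeff m (e (f s))) = MvPolynomial.monomial m (MvPolynomial.coeff m (e (f s))) by
        rw [mul_comm, MvPolynomial.C_mul_monomial, mul_one]]
    conv_lhs => rw [(e (f s)).as_sum]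
    refine Finset.sum_subset (fun m hm => ?_) (fun m _ hm => ?_)
    · refine Finset.mem_biUnion.2 ⟨s, Finsupp.mem_support_iff.2 fun h0 => ?_, hm⟩
      rw [h0, map_zero, MvPolynomial.support_zero] at hm
      exact absurd hm (Finset.notMem_empty _)
    · rw [MvPolynomial.notMem_support_iff.1 hm, map_zero]
  rw [hsum, mk2_sum]
  refine Submodule.sum_mem _ fun m _ => ?_
  rw [mk2_smul, ← L2map_mk2]
  exact Submodule.smul_mem _ _ (Submodule.subset_span ⟨_, rfl⟩)

/-- The kernel of `L₂(C/A) → L₂(C/B)` is generated by the image of `L₂(B/A)`. -/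
theorem ker_proj_L2map {z : CotT.L2 (Q.comp P)} (hz : (projHom Q P).L2map z = 0) :
    z ∈ Submodule.span C (Set.range (inclHom Q P).L2map) := by
  classical
  obtain ⟨q, rfl⟩ := mk2_surjective _ z
  rw [L2map_mk2, mk2_eq_zero_iff, CotT.PresHom.relKerMap_coe] at hz
  obtain ⟨t, ht, htq⟩ := exists_trivRel_lift Q P hz
  obtain ⟨l, r, hlr⟩ := exists_inl_inr Q P ((q : CotT.relMod (Q.comp P)) - t)
  have hl : ∀ s, (projHom Q P).ringHom (l s) = 0 := by
    intro s
    have h0 : (projHom Q P).relModMap ((q : CotT.relMod (Q.comp P)) - t) = 0 := by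
      rw [map_sub, htq, sub_self]
    rw [hlr, map_add, proj_relModMap_inr, add_zero, proj_relModMap_inl] at h0
    simpa using DFunLike.congr_fun h0 s
  choose g hg using fun s => exists_jmap_inr_eq Q P (hl s)
  let r' : σ →₀ (Q.comp P).toExtension.Ring :=
    r + ∑ s ∈ l.support, CotT.rel (Q.comp P) (Sum.inl s) • g s
  let T : CotT.relMod (Q.comp P) := ∑ s ∈ l.support,
    (CotT.jmap (Q.comp P) (inrMap Q P (g s)) • inlMap Q P (Finsupp.single s 1) -
      CotT.jmap (Q.comp P) (inlMap Q P (Finsupp.single s 1)) • inrMap Q P (g s))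
  have hT : T ∈ CotT.trivRel (Q.comp P) :=
    Submodule.sum_mem _ fun s _ => Submodule.subset_span ⟨_, _, rfl⟩
  have hTeq : T = inlMap Q P l - inrMap Q P (∑ s ∈ l.support, CotT.rel (Q.comp P) (Sum.inl s) • g s) := by
    simp only [T, hg, inlMap_single, CotT.jmap_single, one_mul, Finset.sum_sub_distrib, map_sum, map_smul]
    congr 1
    conv_rhs => rw [← Finsupp.sum_single l, Finsupp.sum, map_sum]
    refine Finset.sum_congr rfl fun s _ => ?_
    rw [inlMap_single, Finsupp.smul_single, smul_eq_mul, mul_one]
  have heq : inrMap Q P r' = (q : CotT.relMod (Q.comp P)) - t - T := by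
    rw [hTeq, hlr, map_add]
    abel
  have hmem : inrMap Q P r' ∈ CotT.relKer (Q.comp P) := by
    rw [heq]
    exact sub_mem (sub_mem q.2 (CotT.trivRel_le_relKer _ ht)) (CotT.trivRel_le_relKer _ hT)
  have : mk2 (Q.comp P) q = mk2 (Q.comp P) ⟨inrMap Q P r', hmem⟩ := by
    refine mk2_eq _ ?_
    change gmk _ (q : CotT.relMod (Q.comp P)) = gmk _ (inrMap Q P r')
    rw [heq, ← sub_eq_zero, ← map_sub, gmk_eq_zero]
    rw [show (q : CotT.relMod (Q.comp P)) - ((q : CotT.relMod (Q.comp P)) - t - T) = t + T by abel]
    exact add_mem ht hT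
  rw [this]
  exact mk2_inr_mem_span Q P r' hmem

end CotT85
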