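import Groth.Prelude.Def_Exal
import Groth.Agent.CotT85.Dual
import Mathlib.Tactic.LinearCombination

/-!
# Classes of extensions and `T¹`
-/

set_option autoImplicit false

universe u t

open TensorProduct

noncomputable section

namespace CotT85

open Exal

variable {A B : Type u} {ι : Type u} {σ : Type t} [CommRing A] [CommRing B] [Algebra A B]
variable (P : Algebra.Presentation A B ι σ)
variable {M : Type u} [AddCommGroup M] [Module B M]

lemma ext_proj_incl (X : Ext A B M) (z : M) : X.proj (X.incl z) = 0 :=
  (X.isExtension.exact _).2 ⟨z, rfl⟩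

/-- A lift of `R → B` to the middle ring of an extension. -/
def IsLift (X : Ext A B M) (l : P.toExtension.Ring →ₐ[A] X.E) : Prop :=
  ∀ p, X.proj (l p) = algebraMap P.toExtension.Ring B p

/-- The map on `A[x_i]` with given values. -/
def aevalR (S : Type u) [CommRing S] [Algebra A S] (g : ι → S) : P.toExtension.Ring →ₐ[A] S :=
  (MvPolynomial.aeval g : MvPolynomial ι A →ₐ[A] S)

lemma aevalR_rX (S : Type u) [CommRing S] [Algebra A S] (g : ι → S) (i : ι) :
    aevalR P S g (rX P i) = g i :=
  MvPolynomial.aeval_X g i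

lemma algHom_commutes_rC {S : Type u} [CommRing S] [Algebra A S] (l : P.toExtension.Ring →ₐ[A] S)
    (a : A) : l (rC P a) = algebraMap A S a := by
  rw [rC_eq_algebraMap, AlgHom.commutes]

lemma isLift_of_rX {X : Ext A B M} {l : P.toExtension.Ring →ₐ[A] X.E}
    (h : ∀ i, X.proj (l (rX P i)) = P.val i) : IsLift P X l := by
  intro p
  induction p using ring_induction with
  | C a =>
    rw [algHom_commutes_rC, AlgHom.commutes, rC_eq_algebraMap, ← IsScalarTower.algebraMap_apply]
  | add p q hp hq => rw [map_add, map_add, hp, hq, map_add]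
  | mul_X p i hp => rw [map_mul, map_mul, hp, h, map_mul, algebraMap_rX]

lemma exists_isLift (X : Ext A B M) : ∃ l, IsLift P X l := by
  choose g hg using fun i => X.isExtension.proj_surjective (P.val i)
  exact ⟨aevalR P X.E g, isLift_of_rX P fun i => by rw [aevalR_rX, hg]⟩

lemma IsLift.eq_zero_of_mem_sq {X : Ext A B M} {l : P.toExtension.Ring →ₐ[A] X.E} (hl : IsLift P X l)
    {r : P.toExtension.Ring} (hr : r ∈ P.toExtension.ker ^ 2) : l r = 0 := by
  rw [pow_two] at hr
  refine Submodule.mul_induction_on hr (fun a ha b hb => ?_) (fun a b ha hb => by rw [map_add, ha, hb, add_zero])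
  obtain ⟨z, hz⟩ := (X.isExtension.exact (l a)).1 (by rw [hl]; exact ha)
  obtain ⟨z', hz'⟩ := (X.isExtension.exact (l b)).1 (by rw [hl]; exact hb)
  rw [map_mul, ← hz, ← hz', X.isExtension.mul_incl, ext_proj_incl, zero_smul, map_zero]

theorem IsLift.exists_conormal {X : Ext A B M} {l : P.toExtension.Ring →ₐ[A] X.E} (hl : IsLift P X l) :
    ∃ φ : P.toExtension.Cotangent →ₗ[B] M,
      ∀ r : P.toExtension.ker, X.incl (φ (Algebra.Extension.Cotangent.mk r)) = l r := by
  choose s hs using fun y : P.toExtension.Cotangent => Algebra.Extension.Cotangent.mk_surjective y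
  choose f hf using fun y => (X.isExtension.exact (l (s y : P.toExtension.Ring))).1
    (by rw [hl]; exact (s y).2)
  have key : ∀ r : P.toExtension.ker, X.incl (f (Algebra.Extension.Cotangent.mk r)) = l r := by
    intro r
    rw [hf, ← sub_eq_zero, ← map_sub]
    refine hl.eq_zero_of_mem_sq P ?_
    rw [← Submodule.coe_sub, ← Algebra.Extension.Cotangent.mk_eq_zero_iff, map_sub, hs, sub_self]
  refine ⟨{ toFun := f, map_add' := fun x y => X.isExtension.incl_injective ?_,
            map_smul' := fun b x => X.isExtension.incl_injective ?_ }, key⟩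
  · obtain ⟨r, rfl⟩ := Algebra.Extension.Cotangent.mk_surjective x
    obtain ⟨r', rfl⟩ := Algebra.Extension.Cotangent.mk_surjective y
    rw [map_add, ← map_add, key, key, key, Submodule.coe_add, map_add]
  · obtain ⟨r, rfl⟩ := Algebra.Extension.Cotangent.mk_surjective x
    obtain ⟨p, rfl⟩ := algebraMap_surjective P b
    rw [algebraMap_smul, ← map_smul, key, RingHom.id_apply, Submodule.coe_smul, smul_eq_mul, map_mul,
      ← key r, X.isExtension.mul_incl, hl]

variable {P}

def IsLift.conormal {X : Ext A B M} {l : P.toExtension.Ring →ₐ[A] X.E} (hl : IsLift P X l) :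
    P.toExtension.Cotangent →ₗ[B] M :=
  (hl.exists_conormal P).choose

lemma IsLift.incl_conormal {X : Ext A B M} {l : P.toExtension.Ring →ₐ[A] X.E} (hl : IsLift P X l)
    (r : P.toExtension.ker) : X.incl (hl.conormal (Algebra.Extension.Cotangent.mk r)) = l r :=
  (hl.exists_conormal P).choose_spec r

lemma diff_formula {X : Ext A B M} {l l' : P.toExtension.Ring →ₐ[A] X.E} (hl : IsLift P X l)
    (hl' : IsLift P X l') {ψ : CotT.L0 P →ₗ[B] M}
    (h : ∀ i, X.incl (ψ ((1 : B) ⊗ₜ KaehlerDifferential.D A P.toExtension.Ring (rX P i))) =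
      l (rX P i) - l' (rX P i)) (p : P.toExtension.Ring) :
    X.incl (ψ ((1 : B) ⊗ₜ KaehlerDifferential.D A P.toExtension.Ring p)) = l p - l' p := by
  induction p using ring_induction with
  | C a =>
    rw [algHom_commutes_rC, algHom_commutes_rC, sub_self, rC_eq_algebraMap, Derivation.map_algebraMap,
      tmul_zero, map_zero, map_zero]
  | add p q hp hq =>
    rw [map_add, tmul_add, map_add, map_add, hp, hq, map_add, map_add]
    abel
  | mul_X p i hp =>
    have hsmul : ∀ (r : P.toExtension.Ring) (y : Ω[P.toExtension.Ring⁄A]),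
        ψ ((1 : B) ⊗ₜ (r • y)) = algebraMap P.toExtension.Ring B r • ψ ((1 : B) ⊗ₜ y) := by
      intro r y
      rw [← map_smul, smul_tmul', smul_eq_mul, mul_one, tmul_eq_one_tmul_smul P r y]
    rw [Derivation.leibniz, tmul_add, map_add, map_add, hsmul, hsmul]
    conv_lhs => arg 1; rw [← hl p, ← X.isExtension.mul_incl, h i]
    conv_lhs => arg 2; rw [← hl' (rX P i), ← X.isExtension.mul_incl, hp]
    rw [map_mul, map_mul]
    ring

lemma exists_homotopy {X : Ext A B M} {l l' : P.toExtension.Ring →ₐ[A] X.E} (hl : IsLift P X l)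
    (hl' : IsLift P X l') :
    ∃ ψ : CotT.L0 P →ₗ[B] M, ψ ∘ₗ P.toExtension.cotangentComplex = hl.conormal - hl'.conormal := by
  choose m hm using fun i => (X.isExtension.exact (l (rX P i) - l' (rX P i))).1
    (by rw [map_sub, hl, hl', sub_self])
  let ψ : CotT.L0 P →ₗ[B] M := P.cotangentSpaceBasis.constr ℕ m
  have h : ∀ i, X.incl (ψ ((1 : B) ⊗ₜ KaehlerDifferential.D A P.toExtension.Ring (rX P i))) =
      l (rX P i) - l' (rX P i) := by
    intro i
    rw [← hm i, ← basis_eq_tmul]
    exact congrArg _ (Module.Basis.constr_basis _ _ _ _)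
  refine ⟨ψ, LinearMap.ext fun x => X.isExtension.incl_injective ?_⟩
  obtain ⟨r, rfl⟩ := Algebra.Extension.Cotangent.mk_surjective x
  rw [LinearMap.comp_apply, Algebra.Extension.cotangentComplex_mk, diff_formula hl hl' h,
    LinearMap.sub_apply, map_sub, hl.incl_conormal, hl'.incl_conormal]

variable (P)

/-- The class of an extension in `T¹`. -/
def extClass (X : Ext A B M) : CotT.T1 P M :=
  CotT.homToT1 P M (exists_isLift P X).choose_spec.conormal

lemma extClass_eq {X : Ext A B M} {l : P.toExtension.Ring →ₐ[A] X.E} (hl : IsLift P X l) :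
    extClass P X = CotT.homToT1 P M hl.conormal := by
  rw [extClass, ← sub_eq_zero, ← map_sub, ← LinearMap.mem_ker, ker_homToT1]
  obtain ⟨ψ, hψ⟩ := exists_homotopy (exists_isLift P X).choose_spec hl
  exact ⟨ψ, hψ⟩

lemma extClass_congr {X Y : Ext A B M} (e : Ext.Equiv X Y) : extClass P X = extClass P Y := by
  obtain ⟨l, hl⟩ := exists_isLift P X
  have hl' : IsLift P Y (e.toAlgEquiv.toAlgHom.comp l) := fun p => by
    change Y.proj (e.toAlgEquiv (l p)) = _
    rw [e.proj_apply, hl]
  rw [extClass_eq P hl, extClass_eq P hl']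
  congr 1
  refine LinearMap.ext fun x => Y.isExtension.incl_injective ?_
  obtain ⟨r, rfl⟩ := Algebra.Extension.Cotangent.mk_surjective x
  rw [hl'.incl_conormal, ← e.apply_incl, hl.incl_conormal]
  rfl

lemma nonempty_equiv_of_conormal_eq {X Y : Ext A B M} {l : P.toExtension.Ring →ₐ[A] X.E}
    {l' : P.toExtension.Ring →ₐ[A] Y.E} (hl : IsLift P X l) (hl' : IsLift P Y l')
    (h : hl.conormal = hl'.conormal) : Nonempty (Ext.Equiv X Y) := by
  have rep : ∀ x : X.E, ∃ p : P.toExtension.Ring × M, l p.1 + X.incl p.2 = x := by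
    intro x
    obtain ⟨p, hp⟩ := algebraMap_surjective P (X.proj x)
    obtain ⟨m, hm⟩ := (X.isExtension.exact (x - l p)).1 (by rw [map_sub, hl, hp, sub_self])
    exact ⟨(p, m), by rw [hm, add_sub_cancel]⟩
  choose s hs using rep
  let f : X.E → Y.E := fun x => l' (s x).1 + Y.incl (s x).2
  have hf : ∀ (p : P.toExtension.Ring) (m : M), f (l p + X.incl m) = l' p + Y.incl m := by
    intro p m
    generalize hq : s (l p + X.incl m) = q
    have h1 : l q.1 + X.incl q.2 = l p + X.incl m := by rw [← hq, hs]
    have hr : q.1 - p ∈ P.toExtension.ker := by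
      have := congrArg X.proj h1
      rw [map_add, map_add, ext_proj_incl, ext_proj_incl, hl, hl, add_zero, add_zero] at this
      change algebraMap P.toExtension.Ring B (q.1 - p) = 0
      rw [map_sub, this, sub_self]
    have e1 := hl.incl_conormal ⟨_, hr⟩
    have e2 := hl'.incl_conormal ⟨_, hr⟩
    rw [← h, map_sub] at e2
    rw [map_sub] at e1
    have e3 : hl.conormal (Algebra.Extension.Cotangent.mk ⟨_, hr⟩) = m - q.2 :=
      X.isExtension.incl_injective (by rw [e1, map_sub]; linear_combination h1)
    rw [e3, map_sub] at e2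
    change l' (s (l p + X.incl m)).1 + Y.incl (s (l p + X.incl m)).2 = _
    rw [hq]
    linear_combination -e2
  have hmul : ∀ x y, f (x * y) = f x * f y := by
    intro x y
    have hx := hs x
    have hy := hs y
    generalize s x = p at hx
    generalize s y = q at hy
    subst hx hy
    have e : (l p.1 + X.incl p.2) * (l q.1 + X.incl q.2) =
        l (p.1 * q.1) + X.incl (algebraMap P.toExtension.Ring B p.1 • q.2 +
          algebraMap P.toExtension.Ring B q.1 • p.2) := by
      have h0 : X.incl p.2 * X.incl q.2 = 0 := by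
        rw [X.isExtension.mul_incl, ext_proj_incl, zero_smul, map_zero]
      rw [map_add, ← hl, ← hl, ← X.isExtension.mul_incl, ← X.isExtension.mul_incl, map_mul]
      linear_combination h0
    have e' : (l' p.1 + Y.incl p.2) * (l' q.1 + Y.incl q.2) =
        l' (p.1 * q.1) + Y.incl (algebraMap P.toExtension.Ring B p.1 • q.2 +
          algebraMap P.toExtension.Ring B q.1 • p.2) := by
      have h0 : Y.incl p.2 * Y.incl q.2 = 0 := by
        rw [Y.isExtension.mul_incl, ext_proj_incl, zero_smul, map_zero]
      rw [map_add, ← hl', ← hl', ← Y.isExtension.mul_incl, ← Y.isExtension.mul_incl, map_mul]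
      linear_combination h0
    rw [e, hf, hf, hf, e']
  have hcomm : ∀ a, f (algebraMap A X.E a) = algebraMap A Y.E a := fun a => by
    have := hf (algebraMap A P.toExtension.Ring a) 0
    rwa [map_zero, map_zero, add_zero, add_zero, AlgHom.commutes, AlgHom.commutes] at this
  have hadd : ∀ x y, f (x + y) = f x + f y := by
    intro x y
    have hx := hs x
    have hy := hs y
    generalize s x = p at hx
    generalize s y = q at hy
    subst hx hy
    rw [show l p.1 + X.incl p.2 + (l q.1 + X.incl q.2) = l (p.1 + q.1) + X.incl (p.2 + q.2) by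
      rw [map_add, map_add]; abel, hf, hf, hf, map_add, map_add]
    abel
  let g : X.E →ₐ[A] Y.E :=
    { toFun := f
      map_one' := by rw [← map_one (algebraMap A X.E), hcomm, map_one]
      map_mul' := hmul
      map_zero' := by rw [← map_zero (algebraMap A X.E), hcomm, map_zero]
      map_add' := hadd
      commutes' := hcomm }
  have hproj : ∀ x, Y.proj (g x) = X.proj x := by
    intro x
    rw [← hs x]
    change Y.proj (f (l (s x).1 + X.incl (s x).2)) = _
    rw [hf, map_add, map_add, hl', hl, ext_proj_incl, ext_proj_incl]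
  have hincl : ∀ z, g (X.incl z) = Y.incl z := by
    intro z
    have := hf 0 z
    rwa [map_zero, map_zero, zero_add, zero_add] at this
  exact ⟨{ toAlgEquiv := AlgEquiv.ofBijective g ⟨(injective_iff_map_eq_zero g).2 fun x hx => by
              obtain ⟨z, rfl⟩ := (X.isExtension.exact x).1 (by rw [← hproj, hx, map_zero])
              rw [hincl, ← map_zero Y.incl] at hx
              rw [Y.isExtension.incl_injective hx, map_zero],
            fun y => by
              obtain ⟨x, hx⟩ := X.isExtension.proj_surjective (Y.proj y)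
              obtain ⟨z, hz⟩ := (Y.isExtension.exact (y - g x)).1 (by rw [map_sub, hproj, hx, sub_self])
              exact ⟨x + X.incl z, by rw [map_add, hincl, hz, add_sub_cancel]⟩⟩
           proj_apply := hproj
           apply_incl := hincl }⟩

theorem nonempty_equiv_of_extClass_eq {X Y : Ext A B M} (h : extClass P X = extClass P Y) :
    Nonempty (Ext.Equiv X Y) := by
  obtain ⟨l, hl⟩ := exists_isLift P X
  obtain ⟨l', hl'⟩ := exists_isLift P Y
  rw [extClass_eq P hl, extClass_eq P hl', ← sub_eq_zero, ← map_sub, ← LinearMap.mem_ker, ker_homToT1] at h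
  obtain ⟨ψ, hψ⟩ := h
  -- change the lift to `X`
  let l₂ : P.toExtension.Ring →ₐ[A] X.E := aevalR P X.E fun i =>
    l (rX P i) - X.incl (ψ ((1 : B) ⊗ₜ KaehlerDifferential.D A P.toExtension.Ring (rX P i)))
  have hl₂ : IsLift P X l₂ := isLift_of_rX P fun i => by
    rw [aevalR_rX, map_sub, ext_proj_incl, hl, sub_zero, algebraMap_rX]
  have hd := diff_formula hl hl₂ (ψ := ψ) (fun i => by rw [aevalR_rX]; abel)
  refine nonempty_equiv_of_conormal_eq P hl₂ hl' (LinearMap.ext fun x => ?_)
  obtain ⟨r, rfl⟩ := Algebra.Extension.Cotangent.mk_surjective x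
  apply X.isExtension.incl_injective
  have h1 := hd r
  have h2 : ψ ((1 : B) ⊗ₜ KaehlerDifferential.D A P.toExtension.Ring r) =
      hl.conormal (Algebra.Extension.Cotangent.mk r) - hl'.conormal (Algebra.Extension.Cotangent.mk r) := by
    rw [← LinearMap.sub_apply, ← hψ, LinearMap.lcomp_apply', LinearMap.comp_apply,
      Algebra.Extension.cotangentComplex_mk]
  rw [h2, map_sub, hl.incl_conormal] at h1
  rw [hl₂.incl_conormal]
  linear_combination h1

theorem exists_ext_conormal (φ : P.toExtension.Cotangent →ₗ[B] M) :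
    ∃ X : Ext A B M, extClass P X = CotT.homToT1 P M φ := by
  letI : Module P.toExtension.Ring M := Module.compHom M (algebraMap P.toExtension.Ring B)
  haveI : IsScalarTower P.toExtension.Ring B M := IsScalarTower.of_compHom P.toExtension.Ring B M
  letI : Module P.toExtension.Ringᵐᵒᵖ M := Exal.opModule P.toExtension.Ring M
  haveI : IsCentralScalar P.toExtension.Ring M := Exal.isCentralScalar_opModule P.toExtension.Ring M
  let φ₁ : P.toExtension.ker →ₗ[P.toExtension.Ring] M :=
    (φ.restrictScalars P.toExtension.Ring) ∘ₗ Algebra.Extension.Cotangent.mk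
  have hkill : ∀ r ∈ P.toExtension.ker, ∀ m : M, r • m = 0 := fun r hr m => by
    rw [← algebraMap_smul B r m, show algebraMap P.toExtension.Ring B r = 0 from hr, zero_smul]
  let K : Ideal (TrivSqZeroExt P.toExtension.Ring M) :=
    { carrier := {x | ∃ z : P.toExtension.ker, x.fst = z ∧ x.snd = -φ₁ z}
      zero_mem' := ⟨0, by simp, by simp⟩
      add_mem' := by
        rintro x y ⟨z, hz, hz'⟩ ⟨t, ht, ht'⟩
        refine ⟨z + t, by simp [hz, ht], ?_⟩
        simp only [TrivSqZeroExt.snd_add, hz', ht', map_add]
        abel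
      smul_mem' := by
        rintro c x ⟨z, hz, hz'⟩
        refine ⟨c.fst • z, by simp [hz], ?_⟩
        simp only [smul_eq_mul, TrivSqZeroExt.snd_mul, op_smul_eq_smul, hz, hz', map_smul, smul_neg]
        rw [hkill _ z.2, add_zero] }
  have hK : ∀ x, x ∈ K ↔ ∃ z : P.toExtension.ker, x.fst = z ∧ x.snd = -φ₁ z := fun _ => Iff.rfl
  let S := TrivSqZeroExt P.toExtension.Ring M ⧸ K
  let inlA : A →+* S := (Ideal.Quotient.mk K).comp
    ((TrivSqZeroExt.inlHom P.toExtension.Ring M).comp (algebraMap A P.toExtension.Ring))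
  letI algS : Algebra A S := inlA.toAlgebra
  let pr : TrivSqZeroExt P.toExtension.Ring M →+* B :=
    (algebraMap P.toExtension.Ring B).comp
      (TrivSqZeroExt.fstHom P.toExtension.Ring P.toExtension.Ring M).toRingHom
  have hpr : ∀ x, pr x = algebraMap P.toExtension.Ring B x.fst := fun _ => rfl
  let π₀ : S →+* B := Ideal.Quotient.lift K pr (fun x hx => by
    obtain ⟨z, hz, -⟩ := (hK x).1 hx
    rw [hpr, hz]
    exact z.2)
  let π : S →ₐ[A] B := AlgHom.mk π₀ (fun a => by
    change algebraMap P.toExtension.Ring B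
      (TrivSqZeroExt.fst ((TrivSqZeroExt.inl (algebraMap A P.toExtension.Ring a) : TrivSqZeroExt P.toExtension.Ring M))) = _
    rw [TrivSqZeroExt.fst_inl, ← IsScalarTower.algebraMap_apply])
  let i : M →+ S := (Ideal.Quotient.mk K).toAddMonoidHom.comp
    (TrivSqZeroExt.inrHom P.toExtension.Ring M).toAddMonoidHom
  let X : Ext A B M :=
    { E := S
      proj := π
      incl := i
      isExtension :=
        { proj_surjective := fun b => by
            obtain ⟨p, rfl⟩ := algebraMap_surjective P b
            exact ⟨Ideal.Quotient.mk K (TrivSqZeroExt.inl p), rfl⟩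
          incl_injective := (injective_iff_map_eq_zero i).2 fun m hm => by
            obtain ⟨z, hz, hz'⟩ := (hK _).1 (Ideal.Quotient.eq_zero_iff_mem.1 hm)
            rw [show z = 0 from Subtype.ext (by simpa using hz.symm)] at hz'
            simpa using hz'
          exact := fun x => by
            obtain ⟨x, rfl⟩ := Ideal.Quotient.mk_surjective x
            change pr x = 0 ↔ _
            rw [hpr]
            constructor
            · intro hx
              refine ⟨x.snd + φ₁ ⟨x.fst, hx⟩, Ideal.Quotient.eq.2 ((hK _).2 ⟨-⟨x.fst, hx⟩, ?_, ?_⟩)⟩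
              · simp
              · simp
            · rintro ⟨m, hm⟩
              obtain ⟨z, hz, -⟩ := (hK _).1 (Ideal.Quotient.eq.1 hm)
              have : x.fst = -(z : P.toExtension.Ring) := by rw [← hz]; simp
              rw [this, map_neg, show algebraMap P.toExtension.Ring B (z : P.toExtension.Ring) = 0 from z.2,
                neg_zero]
          mul_incl := fun x m => by
            obtain ⟨x, rfl⟩ := Ideal.Quotient.mk_surjective x
            change Ideal.Quotient.mk K x * Ideal.Quotient.mk K (TrivSqZeroExt.inr m) =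
              Ideal.Quotient.mk K (TrivSqZeroExt.inr (pr x • m))
            rw [← map_mul, hpr, algebraMap_smul]
            congr 1
            exact TrivSqZeroExt.ext (by simp) (by simp) } }
  let l : P.toExtension.Ring →ₐ[A] X.E := AlgHom.mk
    ((Ideal.Quotient.mk K).comp (TrivSqZeroExt.inlHom P.toExtension.Ring M)) (fun _ => rfl)
  have hl : IsLift P X l := fun p => rfl
  refine ⟨X, ?_⟩
  rw [extClass_eq P hl]
  congr 1
  refine LinearMap.ext fun x => X.isExtension.incl_injective ?_
  obtain ⟨r, rfl⟩ := Algebra.Extension.Cotangent.mk_surjective x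
  rw [hl.incl_conormal]
  change Ideal.Quotient.mk K (TrivSqZeroExt.inl (r : P.toExtension.Ring)) =
    Ideal.Quotient.mk K (TrivSqZeroExt.inr (φ₁ r))
  exact Ideal.Quotient.eq.2 ((hK _).2 ⟨r, by simp, by simp⟩)

lemma extClass_trivial : extClass P (Ext.trivial A B M) = 0 := by
  let l : P.toExtension.Ring →ₐ[A] (Ext.trivial A B M).E := AlgHom.mk
    ((letI := Exal.opModule B M; haveI := Exal.isCentralScalar_opModule B M
      TrivSqZeroExt.inlHom B M : B →+* Ext.TrivCarrier A B M).comp (algebraMap P.toExtension.Ring B))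
    (fun a => congrArg TrivSqZeroExt.inl (IsScalarTower.algebraMap_apply A P.toExtension.Ring B a).symm)
  have hl : IsLift P (Ext.trivial A B M) l := fun p => rfl
  rw [extClass_eq P hl, show hl.conormal = 0 from ?_, map_zero]
  refine LinearMap.ext fun x => (Ext.trivial A B M).isExtension.incl_injective ?_
  obtain ⟨r, rfl⟩ := Algebra.Extension.Cotangent.mk_surjective x
  rw [hl.incl_conormal, LinearMap.zero_apply, map_zero]
  change TrivSqZeroExt.inl (algebraMap P.toExtension.Ring B r) = _
  rw [show algebraMap P.toExtension.Ring B (r : P.toExtension.Ring) = 0 from r.2, TrivSqZeroExt.inl_zero]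
  rfl

/-- Classes of extensions are `T¹`. -/
theorem exists_equiv_exalcom : ∃ e : Exalcom A B M ≃ CotT.T1 P M, e 0 = 0 := by
  let F : Exalcom A B M → CotT.T1 P M :=
    Quotient.lift (s := Ext.setoid A B M) (extClass P) fun X Y ⟨e⟩ => extClass_congr P e
  have hbij : Function.Bijective F := by
    constructor
    · intro a b h
      induction a using Quotient.ind with
      | _ X =>
        induction b using Quotient.ind with
        | _ Y => exact Quotient.sound (nonempty_equiv_of_extClass_eq P h)
    · intro x
      obtain ⟨φ, rfl⟩ := homToT1_surjective P M x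
      obtain ⟨X, hX⟩ := exists_ext_conormal P φ
      exact ⟨X.cl, hX⟩
  exact ⟨Equiv.ofBijective F hbij, extClass_trivial P⟩

end CotT85
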