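import Groth.Agent.CotT85.Regular
import Groth.Agent.CotT85.Dual
import Mathlib.Algebra.Category.ModuleCat.Projective
import Mathlib.Algebra.Category.ModuleCat.Ext.HasExt
import Mathlib.Algebra.Homology.DerivedCategory.Ext.EnoughProjectives
import Mathlib.Algebra.Homology.DerivedCategory.Ext.Linear
import Mathlib.Algebra.Homology.DerivedCategory.Ext.ExactSequences
import Mathlib.RingTheory.Localization.AtPrime.Basic
import Mathlib.RingTheory.Ideal.MinimalPrime.Localization
import Mathlib.RingTheory.LocalRing.Basic
import Mathlib.RingTheory.KrullDimension.Zero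

/-!
# `T²` of a reduced algebra as an `Ext¹` of the conormal module
-/

set_option autoImplicit false

universe u

open CategoryTheory CategoryTheory.Abelian

noncomputable section

namespace CotT85

section Ext

variable {B : Type u} [CommRing B] {N L C : Type u} [AddCommGroup N] [Module B N] [AddCommGroup L]
  [Module B L] [AddCommGroup C] [Module B C] [Module.Projective B L]

/-- `Ext¹` out of a cokernel of an inclusion into a projective module. -/
theorem nonempty_coker_equiv_extOne (i : N →ₗ[B] L) (p : L →ₗ[B] C) (hi : Function.Injective i)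
    (hex : Function.Exact i p) (hp : Function.Surjective p) (M : Type u) [AddCommGroup M] [Module B M] :
    Nonempty (((N →ₗ[B] M) ⧸ LinearMap.range (LinearMap.lcomp B M i)) ≃ₗ[B]
      Ext (ModuleCat.of B C) (ModuleCat.of B M) 1) := by
  let S : ShortComplex (ModuleCat.{u} B) :=
    ShortComplex.mk (ModuleCat.ofHom i) (ModuleCat.ofHom p)
      (ModuleCat.hom_ext (LinearMap.ext fun x => hex.apply_apply_eq_zero x))
  have hS : S.ShortExact :=
    { exact := (ShortComplex.moduleCat_exact_iff S).2 fun x hx => (hex x).1 hx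
      mono_f := (ModuleCat.mono_iff_injective _).2 hi
      epi_g := (ModuleCat.epi_iff_surjective _).2 hp }
  haveI : Projective S.X₂ := (IsProjective.iff_projective L).1 inferInstance
  let δ : (N →ₗ[B] M) →ₗ[B] Ext (ModuleCat.of B C) (ModuleCat.of B M) 1 :=
    { toFun := fun φ => hS.extClass.comp (Ext.mk₀ (ModuleCat.ofHom φ : S.X₁ ⟶ _)) (add_zero 1)
      map_add' := fun φ ψ => by rw [ModuleCat.ofHom_add, Ext.mk₀_add, Ext.comp_add]
      map_smul' := fun b φ => by
        rw [RingHom.id_apply, ← Ext.comp_smul, ← Ext.mk₀_smul]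
        rfl }
  have hsurj : Function.Surjective δ := by
    intro x
    obtain ⟨y, hy⟩ := Ext.contravariant_sequence_exact₃ hS (ModuleCat.of B M) x
      (Ext.eq_zero_of_projective _) (n₀ := 0) rfl
    obtain ⟨f, rfl⟩ := (Ext.mk₀_bijective _ _).2 y
    exact ⟨f.hom, hy⟩
  have hker : LinearMap.ker δ = LinearMap.range (LinearMap.lcomp B M i) := by
    ext φ
    rw [LinearMap.mem_ker, LinearMap.mem_range]
    constructor
    · intro h
      obtain ⟨y, hy⟩ := Ext.contravariant_sequence_exact₁ hS (ModuleCat.of B M)
        (Ext.mk₀ (ModuleCat.ofHom φ : S.X₁ ⟶ _)) (add_zero 1) h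
      obtain ⟨f, rfl⟩ := (Ext.mk₀_bijective _ _).2 y
      rw [Ext.mk₀_comp_mk₀] at hy
      exact ⟨f.hom, congrArg ModuleCat.Hom.hom ((Ext.mk₀_bijective _ _).1 hy)⟩
    · rintro ⟨ψ, rfl⟩
      change hS.extClass.comp (Ext.mk₀ (S.f ≫ ModuleCat.ofHom ψ)) (add_zero 1) = 0
      rw [← Ext.mk₀_comp_mk₀, hS.extClass_comp_assoc]
  exact ⟨(Submodule.quotEquivOfEq _ _ hker.symm).trans (δ.quotKerEquivOfSurjective hsurj)⟩

end Ext

section Reduced

variable {k B : Type u} [Field k] [CommRing B] [Algebra k B]

/-- A class killed by `d₂` is killed by an element outside a prime with regular local ring. -/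
theorem exists_notMem_smul_eq_zero {ι : Type u} [Finite ι] {σ : Type u} (P : Algebra.Presentation k B ι σ)
    (p : Ideal B) [p.IsPrime] [IsRegularLocalRing (Localization.AtPrime p)] (z : CotT.L2 P)
    (hz : CotT.d2 P z = 0) : ∃ s ∉ p, s • z = 0 := by
  obtain ⟨q, rfl⟩ := mk2_surjective P z
  let f : P.toExtension.Ring →+* B := algebraMap P.toExtension.Ring B
  have hf : Function.Surjective f := algebraMap_surjective P
  haveI : Algebra.FiniteType k B :=
    Algebra.FiniteType.of_surjective (MvPolynomial.aeval P.val : MvPolynomial ι k →ₐ[k] B)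
      P.aeval_val_surjective
  haveI : IsRegularRing P.toExtension.Ring :=
    inferInstanceAs (IsRegularRing (MvPolynomial ι k))
  let R' := Localization.AtPrime (p.comap f)
  let B' := Localization.AtPrime p
  haveI : IsRegularLocalRing R' := IsRegularRing.isRegularLocalRing_localization (p.comap f)
  let g : R' →+* B' := Localization.localRingHom (p.comap f) p f rfl
  letI : Algebra R' B' := g.toAlgebra
  have hgf : ∀ r, algebraMap R' B' (algebraMap P.toExtension.Ring R' r) =
      algebraMap B B' (algebraMap P.toExtension.Ring B r) := fun r => Localization.localRingHom_to_map _ _ _ _ r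
  haveI : IsScalarTower k R' B' := IsScalarTower.of_algebraMap_eq fun c => by
    rw [IsScalarTower.algebraMap_apply k P.toExtension.Ring R', hgf,
      IsScalarTower.algebraMap_apply k B B', IsScalarTower.algebraMap_apply k P.toExtension.Ring B]
  obtain ⟨hgs, hgker⟩ := localRingHom_surjective_ker f hf p
  have hgs' : Function.Surjective (algebraMap R' B') := hgs
  have hspan : Ideal.span (Set.range fun s => algebraMap P.toExtension.Ring R' (CotT.rel P s)) =
      RingHom.ker (algebraMap R' B') := by
    rw [show RingHom.ker (algebraMap R' B') = RingHom.ker g from rfl, hgker,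
      show RingHom.ker f = Ideal.span (Set.range (CotT.rel P)) from P.span_range_relation_eq_ker.symm,
      Ideal.map_span, ← Set.range_comp]
    rfl
  obtain ⟨rs, hrs, hrker⟩ := exists_weaklyRegular_of_regular_quotient (algebraMap R' B') hgs'
  haveI := subsingleton_L2_listPres hgs' rs hrs hrker
  have hinj : Function.Injective (CotT.d2 (surjPres.{u, u, 0, u} hgs'
      (fun s => algebraMap P.toExtension.Ring R' (CotT.rel P s)) hspan)) :=
    d2_injective_of_subsingleton_L2 _ (listPres hgs' rs hrker)
  obtain ⟨s, hs, hsq⟩ :=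
    exists_smul_mem_trivRel_of_surjPres P (p.comap f).primeCompl hgs' hgf hspan hinj hz
  refine ⟨f s, hs, ?_⟩
  exact (mk2_smul P s q).symm.trans (mk2_eq_zero P hsq)

lemma isRegularLocalRing_of_minimal [IsReduced B] (p : Ideal B) (hp : p ∈ minimalPrimes B) :
    letI : p.IsPrime := hp.1.1
    IsRegularLocalRing (Localization.AtPrime p) := by
  letI : p.IsPrime := hp.1.1
  haveI : Ring.KrullDimLE 0 (Localization.AtPrime p) := .of_isLocalization _ hp _
  letI := (Ring.KrullDimLE.isField_of_isReduced (R := Localization.AtPrime p)).toField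
  infer_instance

theorem nonempty_T2_equiv_extOne [IsReduced B] {ι : Type u} [Finite ι] {σ : Type u}
    (P : Algebra.Presentation k B ι σ) :
    Nonempty (CotT.T2 P B ≃ₗ[B]
      Ext (ModuleCat.of B P.toExtension.Cotangent) (ModuleCat.of B B) 1) := by
  haveI : Module.Projective B (CotT.L1 P) := Module.Projective.of_basis (CotT.L1basis P)
  obtain ⟨e⟩ := nonempty_coker_equiv_extOne (N := ↥(LinearMap.range (CotT.d2 P)))
    (LinearMap.range (CotT.d2 P)).subtype (CotT.toCot P) (Submodule.injective_subtype _)
    (fun x => by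
      rw [← LinearMap.mem_ker, ker_toCot]
      constructor
      · exact fun h => ⟨⟨x, h⟩, rfl⟩
      · rintro ⟨y, rfl⟩
        exact y.2)
    (toCot_surjective P) B
  let Φ : (LinearMap.range (CotT.d2 P) →ₗ[B] B) →ₗ[B] (CotT.L2 P →ₗ[B] B) :=
    LinearMap.lcomp B B (CotT.d2 P).rangeRestrict
  have hΦ : Function.Bijective Φ := by
    refine ⟨fun a b h => ?_, fun φ => ?_⟩
    · exact (LinearMap.cancel_right (LinearMap.surjective_rangeRestrict _)).1 h
    · have hvan : ∀ z, CotT.d2 P z = 0 → φ z = 0 := by
        intro z hz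
        refine IsNilpotent.eq_zero ?_
        rw [← mem_nilradical, nilradical, ← Ideal.sInf_minimalPrimes, Ideal.mem_sInf]
        intro p hp
        haveI : p.IsPrime := hp.1.1
        haveI := isRegularLocalRing_of_minimal p hp
        obtain ⟨s, hs, hsz⟩ := exists_notMem_smul_eq_zero P p z hz
        refine (Ideal.IsPrime.mem_or_mem ‹p.IsPrime› ?_).resolve_left hs
        rw [← smul_eq_mul, ← map_smul, hsz, map_zero]
        exact zero_mem p
      refine ⟨(Submodule.liftQ (LinearMap.ker (CotT.d2 P)) φ fun z hz => hvan z hz).comp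
        (CotT.d2 P).quotKerEquivRange.symm.toLinearMap, LinearMap.ext fun z => ?_⟩
      change Submodule.liftQ (LinearMap.ker (CotT.d2 P)) φ (fun z hz => hvan z hz) ((CotT.d2 P).quotKerEquivRange.symm ((CotT.d2 P).rangeRestrict z)) = φ z
      have : (CotT.d2 P).quotKerEquivRange.symm ((CotT.d2 P).rangeRestrict z) =
          Submodule.Quotient.mk z := by
        rw [LinearEquiv.symm_apply_eq]
        rfl
      rw [this]
      rfl
  refine ⟨((Submodule.Quotient.equiv _ _ (LinearEquiv.ofBijective Φ hΦ) ?_).symm).trans e⟩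
  rw [← LinearMap.range_comp]
  rfl

end Reduced

end CotT85
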