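import Mathlib.Algebra.Algebra.Unitization
import Groth.Agent.CotT85.Basic

/-!
# Two morphisms of presentations over the same square induce the same maps on `T⁰`, `T¹`, `T²`

The homotopy: on `G = F'/F₀'` the product `x * y = j(x) • y` is commutative, so that `R' ⊕ G` is a commutative ring and
there is a unique `Φ : R → G` with `Φ(x_i) = f_i` and `Φ(p q) = τ p • Φ q + τ' q • Φ p`.
-/

set_option autoImplicit false

universe u v w t u' v' w' t' m

open TensorProduct

noncomputable section

namespace CotT85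

section GMod

variable {A : Type u} {B : Type v} {ι : Type w} {σ : Type t}
variable [CommRing A] [CommRing B] [Algebra A B]
variable (P : Algebra.Presentation A B ι σ)

/-- `F/F₀`. -/
def GMod : Type (max t w u) := CotT.relMod P ⧸ CotT.trivRel P

instance : AddCommGroup (GMod P) := inferInstanceAs (AddCommGroup (CotT.relMod P ⧸ CotT.trivRel P))

instance : Module P.toExtension.Ring (GMod P) :=
  inferInstanceAs (Module P.toExtension.Ring (CotT.relMod P ⧸ CotT.trivRel P))

def gmk : CotT.relMod P →ₗ[P.toExtension.Ring] GMod P := (CotT.trivRel P).mkQ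

lemma gmk_surjective : Function.Surjective (gmk P) := Submodule.mkQ_surjective _

lemma gmk_eq_zero {x : CotT.relMod P} : gmk P x = 0 ↔ x ∈ CotT.trivRel P :=
  Submodule.Quotient.mk_eq_zero _

def gj : GMod P →ₗ[P.toExtension.Ring] P.toExtension.Ring :=
  (CotT.trivRel P).liftQ (CotT.jmap P) (fun _ hy => CotT.trivRel_le_relKer P hy)

@[simp] lemma gj_gmk (x : CotT.relMod P) : gj P (gmk P x) = CotT.jmap P x := rfl

lemma gj_comm (x y : GMod P) : gj P x • y = gj P y • x := by
  obtain ⟨a, rfl⟩ := gmk_surjective P x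
  obtain ⟨b, rfl⟩ := gmk_surjective P y
  rw [gj_gmk, gj_gmk, ← map_smul, ← map_smul, ← sub_eq_zero, ← map_sub, gmk_eq_zero]
  exact Submodule.subset_span ⟨a, b, rfl⟩

instance : Mul (GMod P) := ⟨fun x y => gj P x • y⟩

lemma gmul_def (x y : GMod P) : x * y = gj P x • y := rfl

instance : NonUnitalCommRing (GMod P) where
  mul_assoc x y z := by
    simp only [gmul_def, map_smul, smul_eq_mul, mul_smul]
  mul_comm := gj_comm P
  left_distrib x y z := smul_add _ _ _
  right_distrib x y z := by simp only [gmul_def, map_add, add_smul]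
  zero_mul x := by simp only [gmul_def, map_zero, zero_smul]
  mul_zero x := smul_zero _

instance : IsScalarTower P.toExtension.Ring (GMod P) (GMod P) :=
  ⟨fun r x y => by simp only [smul_eq_mul, gmul_def, map_smul, mul_smul]⟩

instance : SMulCommClass P.toExtension.Ring (GMod P) (GMod P) :=
  ⟨fun r x y => by simp only [smul_eq_mul, gmul_def]; exact smul_comm _ _ _⟩

/-- `G → L₁`. -/
def gToL1 : GMod P →ₗ[P.toExtension.Ring] CotT.L1 P :=
  (CotT.trivRel P).liftQ (TensorProduct.mk P.toExtension.Ring B (CotT.relMod P) 1)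
    (fun y hy => CotT.one_tmul_eq_zero_of_mem_trivRel P y hy)

@[simp] lemma gToL1_gmk (x : CotT.relMod P) : gToL1 P (gmk P x) = (1 : B) ⊗ₜ x := rfl

lemma gToL1_smul (r : P.toExtension.Ring) (x : GMod P) :
    gToL1 P (r • x) = algebraMap P.toExtension.Ring B r • gToL1 P x := by
  rw [map_smul, algebraMap_smul]

/-- The class of `1 ⊗ q` in `L₂`. -/
def mk2 (q : CotT.relKer P) : CotT.L2 P := Submodule.Quotient.mk ((1 : B) ⊗ₜ q)

lemma mk2_add (q q' : CotT.relKer P) : mk2 P (q + q') = mk2 P q + mk2 P q' := by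
  rw [mk2, tmul_add, Submodule.Quotient.mk_add, mk2, mk2]

lemma mk2_smul (r : P.toExtension.Ring) (q : CotT.relKer P) :
    mk2 P (r • q) = algebraMap P.toExtension.Ring B r • mk2 P q := by
  rw [mk2, ← tmul_eq_one_tmul_smul P r q, mk2, ← Submodule.Quotient.mk_smul, smul_tmul', smul_eq_mul,
    mul_one]

lemma mk2_zero : mk2 P 0 = 0 := by rw [mk2, tmul_zero, Submodule.Quotient.mk_zero]

lemma mk2_eq_zero {q : CotT.relKer P} (hq : (q : CotT.relMod P) ∈ CotT.trivRel P) : mk2 P q = 0 :=
  (Submodule.Quotient.mk_eq_zero _).2 ⟨(1 : B) ⊗ₜ ⟨q, hq⟩, rfl⟩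

lemma mk2_eq {q q' : CotT.relKer P}
    (h : gmk P (q : CotT.relMod P) = gmk P (q' : CotT.relMod P)) : mk2 P q = mk2 P q' := by
  have h' : mk2 P (q - q') = 0 := mk2_eq_zero P (by
    rw [Submodule.coe_sub, ← gmk_eq_zero, map_sub, h, sub_self])
  conv_lhs => rw [← sub_add_cancel q q', mk2_add, h', zero_add]

lemma mk2_surjective : Function.Surjective (mk2 P) := fun z => by
  obtain ⟨z, rfl⟩ := Submodule.Quotient.mk_surjective _ z
  obtain ⟨q, rfl⟩ := exists_one_tmul_eq P z
  exact ⟨q, rfl⟩

@[simp] lemma d2_mk2 (q : CotT.relKer P) : CotT.d2 P (mk2 P q) = (1 : B) ⊗ₜ (q : CotT.relMod P) :=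
  CotT.d2_mk_tmul P 1 q

end GMod

variable {A : Type u} {B : Type v} {ι : Type w} {σ : Type t}
variable {A' : Type u'} {B' : Type v'} {ι' : Type w'} {σ' : Type t'}
variable [CommRing A] [CommRing B] [Algebra A B] [CommRing A'] [CommRing B'] [Algebra A' B']
variable [Algebra A A'] [Algebra B B'] [Algebra A B'] [IsScalarTower A A' B'] [IsScalarTower A B B']
variable {P : Algebra.Presentation A B ι σ} {P' : Algebra.Presentation A' B' ι' σ'}

/-- Where a variable goes. -/
def hval (h : CotT.PresHom P P') (i : ι) : P'.toExtension.Ring := h.hom.val i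

lemma ringHom_C (h : CotT.PresHom P P') (a : A) :
    h.ringHom (rC P a) = rC P' (algebraMap A A' a) :=
  h.hom.toAlgHom_C a

lemma ringHom_X (h : CotT.PresHom P P') (i : ι) : h.ringHom (rX P i) = hval h i :=
  h.hom.toAlgHom_X i

lemma algebraMap_hval (h : CotT.PresHom P P') (i : ι) :
    algebraMap P'.toExtension.Ring B' (hval h i) = algebraMap B B' (P.val i) := by
  rw [← ringHom_X h i, h.algebraMap_ringHom, algebraMap_rX]

lemma L2map_mk2 (h : CotT.PresHom P P') (q : CotT.relKer P) :
    h.L2map (mk2 P q) = mk2 P' (h.relKerMap q) := by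
  rw [mk2, CotT.PresHom.L2map_mk_tmul, map_one, mk2]

lemma L1map_one_tmul (h : CotT.PresHom P P') (f : CotT.relMod P) :
    h.L1map ((1 : B) ⊗ₜ f) = (1 : B') ⊗ₜ h.relModMap f := by
  rw [CotT.PresHom.L1map_tmul, map_one]

lemma L0map_basis (h : CotT.PresHom P P') (i : ι) :
    h.L0map (P.cotangentSpaceBasis i) =
      (1 : B') ⊗ₜ KaehlerDifferential.D A' P'.toExtension.Ring (hval h i) := by
  rw [Algebra.Generators.cotangentSpaceBasis_apply, CotT.PresHom.L0map_apply]
  erw [Algebra.Extension.CotangentSpace.map_tmul]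
  rw [map_one]
  congr 2
  exact ringHom_X h i

section Homotopy

variable (h h' : CotT.PresHom P P')

lemma exists_diff (i : ι) :
    ∃ f : CotT.relMod P', CotT.jmap P' f = hval h i - hval h' i := by
  refine exists_jmap_eq P' ?_
  change algebraMap P'.toExtension.Ring B' (hval h i - hval h' i) = 0
  rw [map_sub, algebraMap_hval, algebraMap_hval, sub_self]

def diff (i : ι) : CotT.relMod P' := (exists_diff h h' i).choose

lemma jmap_diff (i : ι) : CotT.jmap P' (diff h h' i) = hval h i - hval h' i :=
  (exists_diff h h' i).choose_spec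

def homE : P.toExtension.Ring →+* Unitization P'.toExtension.Ring (GMod P') :=
  MvPolynomial.eval₂Hom
    ((Unitization.inlRingHom P'.toExtension.Ring (GMod P')).comp
      ((rC P').comp (algebraMap A A')))
    (fun i => Unitization.inl (hval h' i) + Unitization.inr (gmk P' (diff h h' i)))

/-- The homotopy on polynomials. -/
def phi (p : P.toExtension.Ring) : GMod P' := (homE h h' p).snd

lemma homE_C (a : A) :
    homE h h' (rC P a) = Unitization.inl (rC P' (algebraMap A A' a)) :=
  MvPolynomial.eval₂Hom_C _ _ a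

lemma homE_X (i : ι) :
    homE h h' (rX P i) =
      Unitization.inl (hval h' i) + Unitization.inr (gmk P' (diff h h' i)) :=
  MvPolynomial.eval₂Hom_X' _ _ i

lemma fst_homE (p : P.toExtension.Ring) : (homE h h' p).fst = h'.ringHom p := by
  induction p using ring_induction with
  | C a => rw [homE_C, Unitization.fst_inl, ringHom_C]
  | add p q hp hq => rw [map_add, Unitization.fst_add, hp, hq, map_add]
  | mul_X p i hp =>
    rw [map_mul, Unitization.fst_mul, hp, homE_X, Unitization.fst_add, Unitization.fst_inl,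
      Unitization.fst_inr, add_zero, map_mul, ringHom_X]

lemma phi_C (a : A) : phi h h' (rC P a) = 0 := by
  rw [phi, homE_C, Unitization.snd_inl]

lemma phi_X (i : ι) : phi h h' (rX P i) = gmk P' (diff h h' i) := by
  rw [phi, homE_X, Unitization.snd_add, Unitization.snd_inl, Unitization.snd_inr, zero_add]

lemma phi_add (p q : P.toExtension.Ring) : phi h h' (p + q) = phi h h' p + phi h h' q := by
  rw [phi, map_add, Unitization.snd_add]
  rfl

lemma phi_zero : phi h h' 0 = 0 := by
  rw [phi, map_zero, Unitization.snd_zero]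

lemma phi_mul' (p q : P.toExtension.Ring) :
    phi h h' (p * q) = h'.ringHom p • phi h h' q + h'.ringHom q • phi h h' p +
      gj P' (phi h h' p) • phi h h' q := by
  rw [phi, map_mul, Unitization.snd_mul, fst_homE, fst_homE]
  rfl

lemma gj_phi (p : P.toExtension.Ring) : gj P' (phi h h' p) = h.ringHom p - h'.ringHom p := by
  induction p using ring_induction with
  | C a => rw [phi_C, map_zero, ringHom_C, ringHom_C, sub_self]
  | add p q hp hq => rw [phi_add, map_add, hp, hq, map_add, map_add]; abel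
  | mul_X p i hp =>
    rw [phi_mul', map_add, map_add, map_smul, map_smul, map_smul, hp, phi_X, gj_gmk, jmap_diff,
      map_mul, map_mul, ringHom_X, ringHom_X]
    simp only [smul_eq_mul]
    ring

lemma phi_mul (p q : P.toExtension.Ring) :
    phi h h' (p * q) = h.ringHom p • phi h h' q + h'.ringHom q • phi h h' p := by
  rw [phi_mul', gj_phi, sub_smul]
  abel

/-- `a_s - a'_s - Φ(relation s)`, an element of `Q'`. -/
lemma exists_cor (s : σ) :
    ∃ q : CotT.relKer P', gmk P' (q : CotT.relMod P') =
      gmk P' (h.relVal s) - gmk P' (h'.relVal s) - phi h h' (CotT.rel P s) := by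
  obtain ⟨w, hw⟩ := gmk_surjective P' (phi h h' (CotT.rel P s))
  refine ⟨⟨h.relVal s - h'.relVal s - w, ?_⟩, by rw [map_sub, map_sub, hw]⟩
  change CotT.jmap P' _ = 0
  rw [map_sub, map_sub, h.jmap_relVal, h'.jmap_relVal, ← gj_gmk P' w, hw, gj_phi]
  exact sub_self _

def cor (s : σ) : CotT.relKer P' := (exists_cor h h' s).choose

lemma gmk_cor (s : σ) : gmk P' (cor h h' s : CotT.relMod P') =
      gmk P' (h.relVal s) - gmk P' (h'.relVal s) - phi h h' (CotT.rel P s) :=
  (exists_cor h h' s).choose_spec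

/-- `Σ r_s e_s ↦ Σ τ'(r_s) • cor s`. -/
def corMap : CotT.relMod P →ₛₗ[h'.ringHom] CotT.relKer P' where
  toFun f := Finsupp.linearCombination P'.toExtension.Ring (cor h h') (Finsupp.mapRange h'.ringHom (map_zero _) f)
  map_add' f g := by rw [Finsupp.mapRange_add (map_add _), map_add]
  map_smul' r f := by
    rw [← map_smul]
    congr 1
    ext s
    simp [Finsupp.mapRange_apply, map_mul]

lemma corMap_single (s : σ) (r : P.toExtension.Ring) :
    corMap h h' (Finsupp.single s r) = h'.ringHom r • cor h h' s := by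
  simp [corMap]

/-- The homotopy identity on `F`. -/
lemma key (f : CotT.relMod P) :
    gmk P' (h.relModMap f) = gmk P' (h'.relModMap f) + gmk P' (corMap h h' f : CotT.relMod P') +
      phi h h' (CotT.jmap P f) := by
  induction f using Finsupp.induction_linear with
  | zero => simp [phi_zero]
  | add f g hf hg =>
    simp only [map_add, phi_add, Submodule.coe_add, hf, hg]
    abel
  | single s r =>
    rw [CotT.PresHom.relModMap_single, CotT.PresHom.relModMap_single, corMap_single, CotT.jmap_single,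
      map_smul, map_smul, Submodule.coe_smul, map_smul, gmk_cor, mul_comm r, phi_mul]
    have hcomm : h.ringHom (CotT.rel P s) • phi h h' r =
        h.ringHom r • gmk P' (h.relVal s) - h'.ringHom r • gmk P' (h.relVal s) := by
      rw [← sub_smul, ← gj_phi, ← h.jmap_relVal, ← gj_gmk P']
      exact gj_comm P' _ _
    rw [hcomm, smul_sub, smul_sub]
    abel

variable (M' : Type m) [AddCommGroup M'] [Module B' M'] [Module B M'] [IsScalarTower B B' M']

theorem T0pull_eq : h.T0pull M' = h'.T0pull M' := by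
  refine LinearMap.ext fun ψ => Subtype.ext ?_
  change h.pull0 M' (ψ : CotT.L0 P' →ₗ[B'] M') = h'.pull0 M' ψ
  refine P.cotangentSpaceBasis.ext fun i => ?_
  rw [CotT.PresHom.pull0_apply, CotT.PresHom.pull0_apply, L0map_basis, L0map_basis, ← sub_eq_zero,
    ← map_sub, ← tmul_sub, ← map_sub, ← jmap_diff, ← one_smul B' ((1 : B') ⊗ₜ _), ← CotT.d1_tmul]
  exact LinearMap.congr_fun (LinearMap.mem_ker.1 ψ.2) _

theorem T1pull_eq : h.T1pull M' = h'.T1pull M' := by
  refine LinearMap.ext fun x => ?_
  obtain ⟨c, rfl⟩ := Submodule.Quotient.mk_surjective _ x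
  refine (Submodule.Quotient.eq (p := CotT.coboundaries1 P M')
    (x := h.cocycles1Pull M' c) (y := h'.cocycles1Pull M' c)).2 ?_
  let φ : CotT.L0 P →ₗ[B] M' :=
    P.cotangentSpaceBasis.constr ℕ fun i =>
      (c : CotT.L1 P' →ₗ[B'] M') ((1 : B') ⊗ₜ diff h h' i)
  refine ⟨φ, (CotT.L1basis P).ext fun s => ?_⟩
  have hφ : ∀ p : P.toExtension.Ring, φ ((1 : B) ⊗ₜ KaehlerDifferential.D A P.toExtension.Ring p) =
      (c : CotT.L1 P' →ₗ[B'] M') (gToL1 P' (phi h h' p)) := by
    intro p
    induction p using ring_induction with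
    | C a =>
      rw [phi_C, map_zero, map_zero, rC_eq_algebraMap, Derivation.map_algebraMap, tmul_zero, map_zero]
    | add p q hp hq => rw [map_add, tmul_add, map_add, hp, hq, phi_add, map_add, map_add]
    | mul_X p i hp =>
      have hX : φ ((1 : B) ⊗ₜ KaehlerDifferential.D A P.toExtension.Ring (rX P i)) =
          (c : CotT.L1 P' →ₗ[B'] M') ((1 : B') ⊗ₜ diff h h' i) := by
        rw [← basis_eq_tmul]
        exact Module.Basis.constr_basis _ _ _ _
      rw [Derivation.leibniz, tmul_add, map_add, ← tmul_eq_one_tmul_smul, ← tmul_eq_one_tmul_smul,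
        phi_mul, map_add, map_add, gToL1_smul, gToL1_smul, map_smul, map_smul, phi_X, gToL1_gmk,
        h.algebraMap_ringHom, h'.algebraMap_ringHom,
        IsScalarTower.algebraMap_smul B' (algebraMap P.toExtension.Ring B p),
        IsScalarTower.algebraMap_smul B' (algebraMap P.toExtension.Ring B (rX P i)), ← hX, ← hp, ← map_smul, ← map_smul, smul_tmul', smul_tmul',
        smul_eq_mul, smul_eq_mul, mul_one, mul_one]
  change φ (CotT.d1 P (CotT.L1basis P s)) =
    (c : CotT.L1 P' →ₗ[B'] M') (h.L1map (CotT.L1basis P s)) -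
      (c : CotT.L1 P' →ₗ[B'] M') (h'.L1map (CotT.L1basis P s))
  rw [CotT.L1basis_apply, CotT.d1_tmul, one_smul, CotT.jmap_single, one_mul, hφ, L1map_one_tmul,
    L1map_one_tmul, CotT.PresHom.relModMap_single, CotT.PresHom.relModMap_single, map_one, map_one,
    one_smul, one_smul, ← map_sub, ← gToL1_gmk, ← gToL1_gmk, ← map_sub (gToL1 P')]
  have hcor : phi h h' (CotT.rel P s) =
      gmk P' (h.relVal s) - gmk P' (h'.relVal s) - gmk P' (cor h h' s : CotT.relMod P') := by
    rw [gmk_cor]; abel
  have hc : (c : CotT.L1 P' →ₗ[B'] M') (gToL1 P' (gmk P' (cor h h' s : CotT.relMod P'))) = 0 := by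
    rw [gToL1_gmk, ← d2_mk2]
    exact LinearMap.congr_fun (LinearMap.mem_ker.1 c.2) _
  rw [hcor, map_sub, map_sub, hc, sub_zero]

theorem T2pull_eq : h.T2pull M' = h'.T2pull M' := by
  refine LinearMap.ext fun x => ?_
  obtain ⟨ψ, rfl⟩ := Submodule.Quotient.mk_surjective _ x
  refine (Submodule.Quotient.eq (p := LinearMap.range (CotT.d2Star P M'))
    (x := h.pull2 M' ψ) (y := h'.pull2 M' ψ)).2 ?_
  let φ : CotT.L1 P →ₗ[B] M' := (CotT.L1basis P).constr ℕ fun s => ψ (mk2 P' (cor h h' s))
  have hφ : ∀ f : CotT.relMod P, φ ((1 : B) ⊗ₜ f) = ψ (mk2 P' (corMap h h' f)) := by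
    intro f
    induction f using Finsupp.induction_linear with
    | zero => rw [tmul_zero, map_zero, map_zero, mk2_zero, map_zero]
    | add f g hf hg => rw [tmul_add, map_add, hf, hg, map_add, mk2_add, map_add]
    | single s r =>
      rw [corMap_single, mk2_smul, map_smul, h'.algebraMap_ringHom, IsScalarTower.algebraMap_smul,
        ← mul_one r, ← smul_eq_mul, ← Finsupp.smul_single, ← tmul_eq_one_tmul_smul]
      simp only [smul_eq_mul, mul_one]
      rw [show (algebraMap P.toExtension.Ring B r) ⊗ₜ[P.toExtension.Ring] Finsupp.single s (1 : P.toExtension.Ring)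
          = algebraMap P.toExtension.Ring B r • CotT.L1basis P s by
            rw [CotT.L1basis_apply, smul_tmul', smul_eq_mul, mul_one], map_smul]
      congr 1
      exact Module.Basis.constr_basis _ _ _ _
  refine ⟨φ, LinearMap.ext fun z => ?_⟩
  obtain ⟨q, rfl⟩ := mk2_surjective P z
  have hq : mk2 P' (h.relKerMap q) =
      mk2 P' (h'.relKerMap q) + mk2 P' (corMap h h' (q : CotT.relMod P)) := by
    rw [← mk2_add]
    refine mk2_eq P' ?_
    rw [Submodule.coe_add, map_add, CotT.PresHom.relKerMap_coe, CotT.PresHom.relKerMap_coe, key,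
      show CotT.jmap P (q : CotT.relMod P) = 0 from q.2, phi_zero, add_zero]
  change φ (CotT.d2 P (mk2 P q)) = ψ (h.L2map (mk2 P q)) - ψ (h'.L2map (mk2 P q))
  rw [d2_mk2, hφ, L2map_mk2, L2map_mk2, hq, map_add, add_sub_cancel_left]

end Homotopy

end CotT85
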