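import Mathlib.RingTheory.Localization.Basic
import Mathlib.Algebra.Polynomial.AlgebraMap
import Groth.Agent.CotT85.Vanishing
import Groth.Agent.CotT85.Criterion

/-!
# A localization has vanishing `T²`

The presentation with variables `x_s` and relations `s x_s - 1` has only trivial relations among its relations.
-/

set_option autoImplicit false

universe u v w t m

open TensorProduct

noncomputable section

namespace CotT85

section Regular

variable {A : Type u} {B : Type v} {ι : Type w} {σ : Type t} [CommRing A] [CommRing B] [Algebra A B]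
variable (P : Algebra.Presentation A B ι σ)

/-- If the relations form a regular family, there are no nontrivial relations among them. -/
theorem relKer_le_trivRel_of_regular
    (hreg : ∀ (T : Finset σ) (a : σ), a ∉ T → ∀ f : P.toExtension.Ring,
      f * CotT.rel P a ∈ Ideal.span (CotT.rel P '' T) → f ∈ Ideal.span (CotT.rel P '' T)) :
    CotT.relKer P ≤ CotT.trivRel P := by
  classical
  intro x hx
  suffices h : ∀ T : Finset σ, ∀ x : CotT.relMod P, x.support ⊆ T → CotT.jmap P x = 0 →
      x ∈ CotT.trivRel P from h x.support x subset_rfl hx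
  intro T
  induction T using Finset.induction_on with
  | empty =>
    intro x hsupp _
    rw [Finsupp.support_eq_empty.1 (Finset.subset_empty.1 hsupp)]
    exact zero_mem _
  | insert a T ha ih =>
    intro x hsupp hx
    let x₀ : CotT.relMod P := x.erase a
    have hx₀ : x₀ ∈ Finsupp.supported P.toExtension.Ring P.toExtension.Ring (T : Set σ) := by
      rw [Finsupp.mem_supported]
      intro j hj
      rw [Finset.mem_coe, Finsupp.support_erase, Finset.mem_erase] at hj
      exact (Finset.mem_insert.1 (hsupp hj.2)).resolve_left hj.1
    have hsplit : x = Finsupp.single a (x a) + x₀ := (Finsupp.single_add_erase a x).symm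
    have hspan : x a ∈ Ideal.span (CotT.rel P '' T) := by
      refine hreg T a ha _ ?_
      have h0 := congrArg (CotT.jmap P) hsplit
      rw [hx, map_add, CotT.jmap_single] at h0
      rw [eq_neg_of_add_eq_zero_left h0.symm]
      exact neg_mem ((Finsupp.mem_span_image_iff_linearCombination _).2 ⟨x₀, hx₀, rfl⟩)
    obtain ⟨y, hy, hya⟩ := (Finsupp.mem_span_image_iff_linearCombination _).1 hspan
    let U : CotT.relMod P := CotT.jmap P y • Finsupp.single a 1 -
      CotT.jmap P (Finsupp.single a 1) • y
    have hU : U ∈ CotT.trivRel P := Submodule.subset_span ⟨y, Finsupp.single a 1, rfl⟩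
    have hrest : x - U ∈ CotT.trivRel P := by
      refine ih (x - U) (fun j hj => ?_) ?_
      · by_contra hjT
        rw [Finsupp.mem_support_iff] at hj
        refine hj ?_
        have hyj : y j = 0 := (Finsupp.mem_supported' _ y).1 hy j hjT
        have hx₀j : x₀ j = 0 := (Finsupp.mem_supported' _ x₀).1 hx₀ j hjT
        have hUj : U j = Finsupp.single a (x a) j := by
          simp only [U, Finsupp.sub_apply, Finsupp.smul_apply, hyj, smul_zero, sub_zero]
          rw [show CotT.jmap P y = x a from hya]
          by_cases hja : j = a
          · subst hja; simp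
          · simp [Ne.symm hja]
        rw [Finsupp.sub_apply, hUj]
        conv_lhs => arg 1; rw [hsplit]
        rw [Finsupp.add_apply, hx₀j, add_zero, sub_self]
      · rw [map_sub, hx, show CotT.jmap P U = 0 from CotT.trivRel_le_relKer P hU, sub_zero]
    have := add_mem hrest hU
    rwa [sub_add_cancel] at this

end Regular

section Localization

variable {B C : Type u} [CommRing B] [CommRing C] [Algebra B C] (S : Submonoid B) [IsLocalization S C]

lemma eq_zero_of_mul_C_mul_X_sub_one {R : Type u} [CommRing R] (s : R) (p : Polynomial R)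
    (h : p * (Polynomial.C s * Polynomial.X - 1) = 0) : p = 0 := by
  ext n
  induction n with
  | zero =>
    have := congrArg (Polynomial.coeff · 0) h
    simpa [mul_sub, ← mul_assoc] using this
  | succ n ih =>
    have := congrArg (Polynomial.coeff · (n + 1)) h
    rw [mul_sub, mul_one, ← mul_assoc] at this
    simp only [Polynomial.coeff_sub, Polynomial.coeff_mul_X, Polynomial.coeff_mul_C,
      Polynomial.coeff_zero] at this
    rw [ih, Polynomial.coeff_zero, zero_mul, zero_sub, neg_eq_zero] at this
    simpa using this

lemma aeval_locVal_surjective :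
    Function.Surjective (MvPolynomial.aeval (R := B) fun s : S => IsLocalization.mk' C 1 s) := by
  intro c
  obtain ⟨⟨b, s⟩, rfl⟩ := IsLocalization.mk'_surjective S c
  refine ⟨MvPolynomial.C b * MvPolynomial.X s, ?_⟩
  rw [map_mul, MvPolynomial.aeval_C, MvPolynomial.aeval_X, IsLocalization.mul_mk'_eq_mk'_of_mul, mul_one]

/-- The presentation of a localization. -/
def locPres : Algebra.Presentation B C S S where
  __ := Algebra.Generators.ofSurjective (fun s : S => IsLocalization.mk' C 1 s) (aeval_locVal_surjective S)
  relation s := MvPolynomial.C (s : B) * MvPolynomial.X s - 1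
  span_range_relation_eq_ker := by
    rw [Algebra.Generators.ker_eq_ker_aeval_val]
    let J : Ideal (MvPolynomial S B) :=
      Ideal.span (Set.range fun s : S => MvPolynomial.C (s : B) * MvPolynomial.X s - 1)
    let π : MvPolynomial S B →+* MvPolynomial S B ⧸ J := Ideal.Quotient.mk J
    have hinv : ∀ s : S, π (MvPolynomial.C (s : B)) * π (MvPolynomial.X s) = 1 := fun s => by
      rw [← map_mul, ← map_one π]
      exact Ideal.Quotient.eq.2 (Ideal.subset_span ⟨s, rfl⟩)
    let g : C →+* MvPolynomial S B ⧸ J :=
      IsLocalization.lift (M := S) (g := π.comp MvPolynomial.C)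
        (fun s => IsUnit.of_mul_eq_one _ (hinv s))
    have hg : ∀ p : MvPolynomial S B,
        g (MvPolynomial.aeval (fun s : S => IsLocalization.mk' C 1 s) p) = π p := by
      intro p
      induction p using MvPolynomial.induction_on with
      | C b => rw [MvPolynomial.aeval_C]; exact IsLocalization.lift_eq _ _
      | add p q hp hq => rw [map_add, map_add, hp, hq, map_add]
      | mul_X p s hp =>
        rw [map_mul, map_mul, hp, map_mul, MvPolynomial.aeval_X]
        congr 1
        refine (IsLocalization.lift_mk'_spec _ _ _ _).2 ?_
        rw [map_one]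
        exact (hinv s).symm
    refine le_antisymm (Ideal.span_le.2 ?_) fun p hp => ?_
    · rintro _ ⟨s, rfl⟩
      rw [SetLike.mem_coe, RingHom.mem_ker]
      simp only [Algebra.Generators.ofSurjective_val, map_sub, map_mul, MvPolynomial.aeval_C,
        MvPolynomial.aeval_X, map_one]
      rw [IsLocalization.mul_mk'_eq_mk'_of_mul, mul_one, IsLocalization.mk'_self, sub_self]
    · have := hg p
      rw [show MvPolynomial.aeval (fun s : S => IsLocalization.mk' C 1 s) p = 0 from hp, map_zero] at this
      exact Ideal.Quotient.eq_zero_iff_mem.1 this.symm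

theorem subsingleton_L2_locPres : Subsingleton (CotT.L2 (locPres (C := C) S)) := by
  classical
  rw [subsingleton_L2_iff]
  refine relKer_le_trivRel_of_regular _ fun T a ha f hf => ?_
  let I : Ideal (MvPolynomial S B) :=
    Ideal.span (CotT.rel (locPres (C := C) S) '' (T : Set S))
  let π : MvPolynomial S B →+* MvPolynomial S B ⧸ I := Ideal.Quotient.mk I
  let ψ : MvPolynomial S B →+* Polynomial (MvPolynomial S B ⧸ I) :=
    MvPolynomial.eval₂Hom (Polynomial.C.comp (π.comp MvPolynomial.C))
      (fun j => if j = a then Polynomial.X else Polynomial.C (π (MvPolynomial.X j)))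
  have hπ : ∀ p, (ψ p).eval (π (MvPolynomial.X a)) = π p := by
    intro p
    induction p using MvPolynomial.induction_on with
    | C b => simp [ψ]
    | add p q hp hq => rw [map_add, Polynomial.eval_add, hp, hq, map_add]
    | mul_X p j hp =>
      rw [map_mul, Polynomial.eval_mul, hp, map_mul]
      congr 1
      by_cases hj : j = a
      · subst hj; simp [ψ]
      · simp [ψ, hj]
  have hI : ∀ p ∈ I, ψ p = 0 := by
    intro p hp
    have hle : I ≤ RingHom.ker ψ := by
      refine Ideal.span_le.2 ?_
      rintro _ ⟨j, hj, rfl⟩
      have hja : j ≠ a := fun h => ha (h ▸ hj)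
      have h0 : π (MvPolynomial.C (j : B) * MvPolynomial.X j - 1) = 0 :=
        Ideal.Quotient.eq_zero_iff_mem.2 (Ideal.subset_span ⟨j, hj, rfl⟩)
      change ψ (MvPolynomial.C (j : B) * MvPolynomial.X j - 1) = 0
      rw [map_sub, map_mul, map_one]
      simp only [ψ, MvPolynomial.eval₂Hom_C, MvPolynomial.eval₂Hom_X', if_neg hja, RingHom.comp_apply]
      rw [← map_mul, ← map_one (Polynomial.C (R := MvPolynomial S B ⧸ I)), ← map_sub, ← map_mul,
        ← map_one π, ← map_sub, h0, map_zero]
    exact hle hp
  have ha' : ψ (MvPolynomial.C (a : B) * MvPolynomial.X a - 1) =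
      Polynomial.C (π (MvPolynomial.C (a : B))) * Polynomial.X - 1 := by
    rw [map_sub, map_mul, map_one]
    simp only [ψ, MvPolynomial.eval₂Hom_C, MvPolynomial.eval₂Hom_X', if_pos, RingHom.comp_apply]
  have h1 : ψ f * (Polynomial.C (π (MvPolynomial.C (a : B))) * Polynomial.X - 1) = 0 := by
    rw [← ha', ← map_mul]
    exact hI _ hf
  have h2 := eq_zero_of_mul_C_mul_X_sub_one _ _ h1
  have h3 := hπ f
  rw [h2, Polynomial.eval_zero] at h3
  exact Ideal.Quotient.eq_zero_iff_mem.1 h3.symm

include S in
theorem subsingleton_T2_of_isLocalization {ι σ : Type w} (P : Algebra.Presentation B C ι σ)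
    (M : Type m) [AddCommGroup M] [Module C M] : Subsingleton (CotT.T2 P M) := by
  haveI := subsingleton_L2_locPres (C := C) S
  haveI := subsingleton_T2_of_L2 (locPres (C := C) S) M
  exact (T2equiv M P (locPres (C := C) S)).toEquiv.subsingleton

end Localization

end CotT85
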