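import Mathlib.LinearAlgebra.Quotient.Basic
import Mathlib.Algebra.Exact.Basic
import Mathlib.LinearAlgebra.Isomorphisms
import Mathlib.Tactic.Abel

/-!
# The nine term sequence of a short exact sequence of three term complexes

The rows are exact and injective on the left in all three degrees, and surjective on the right in degrees `0` and `1`.
-/

set_option autoImplicit false

universe u v₁ v₂ v₃ w₁ w₂ w₃ x₁ x₂ x₃

noncomputable section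

namespace CotT85

/-- A linear map out of a surjection. -/
lemma exists_factor {S : Type u} [Ring S] {X : Type v₁} {Y : Type v₂} {Z : Type v₃}
    [AddCommGroup X] [Module S X] [AddCommGroup Y] [Module S Y] [AddCommGroup Z] [Module S Z]
    (p : X →ₗ[S] Y) (hp : Function.Surjective p) (q : X →ₗ[S] Z)
    (h : ∀ x, p x = 0 → q x = 0) : ∃ d : Y →ₗ[S] Z, ∀ x, d (p x) = q x := by
  refine ⟨(LinearMap.ker p).liftQ q (fun x hx => h x hx) ∘ₗ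
    (p.quotKerEquivOfSurjective hp).symm.toLinearMap, fun x => ?_⟩
  have : (p.quotKerEquivOfSurjective hp).symm (p x) = Submodule.Quotient.mk x := by
    rw [LinearEquiv.symm_apply_eq]
    rfl
  simp only [LinearMap.comp_apply, LinearEquiv.coe_coe, this, Submodule.liftQ_apply]

variable {S : Type u} [CommRing S]
variable {C₁ : Type v₁} {C₂ : Type v₂} {C₃ : Type v₃} {D₁ : Type w₁} {D₂ : Type w₂} {D₃ : Type w₃}
  {E₁ : Type x₁} {E₂ : Type x₂} {E₃ : Type x₃}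
variable [AddCommGroup C₁] [Module S C₁] [AddCommGroup C₂] [Module S C₂] [AddCommGroup C₃] [Module S C₃]
  [AddCommGroup D₁] [Module S D₁] [AddCommGroup D₂] [Module S D₂] [AddCommGroup D₃] [Module S D₃]
  [AddCommGroup E₁] [Module S E₁] [AddCommGroup E₂] [Module S E₂] [AddCommGroup E₃] [Module S E₃]

/-- Middle cohomology of `C → D → E`. -/
abbrev H1 (a : C₁ →ₗ[S] D₁) (b : D₁ →ₗ[S] E₁) : Type w₁ :=
  LinearMap.ker b ⧸ (LinearMap.range a).comap (LinearMap.ker b).subtype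

theorem nine_term
    (a₁ : C₁ →ₗ[S] D₁) (b₁ : D₁ →ₗ[S] E₁) (a₂ : C₂ →ₗ[S] D₂) (b₂ : D₂ →ₗ[S] E₂)
    (a₃ : C₃ →ₗ[S] D₃) (b₃ : D₃ →ₗ[S] E₃)
    (f0 : C₁ →ₗ[S] C₂) (g0 : C₂ →ₗ[S] C₃) (f1 : D₁ →ₗ[S] D₂) (g1 : D₂ →ₗ[S] D₃)
    (f2 : E₁ →ₗ[S] E₂) (g2 : E₂ →ₗ[S] E₃)
    (hba₂ : ∀ c, b₂ (a₂ c) = 0)
    (hfa : ∀ c, f1 (a₁ c) = a₂ (f0 c)) (hga : ∀ c, g1 (a₂ c) = a₃ (g0 c))
    (hfb : ∀ d, f2 (b₁ d) = b₂ (f1 d)) (hgb : ∀ d, g2 (b₂ d) = b₃ (g1 d))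
    (hf0 : Function.Injective f0) (hf1 : Function.Injective f1) (hf2 : Function.Injective f2)
    (he0 : Function.Exact f0 g0) (he1 : Function.Exact f1 g1) (he2 : Function.Exact f2 g2)
    (hg0 : Function.Surjective g0) (hg1 : Function.Surjective g1)
    (F0 : LinearMap.ker a₁ →ₗ[S] LinearMap.ker a₂) (hF0 : ∀ x, (F0 x : C₂) = f0 x)
    (G0 : LinearMap.ker a₂ →ₗ[S] LinearMap.ker a₃) (hG0 : ∀ x, (G0 x : C₃) = g0 x)
    (F1 : H1 a₁ b₁ →ₗ[S] H1 a₂ b₂)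
    (hF1 : ∀ (z : LinearMap.ker b₁) (z' : LinearMap.ker b₂), (z' : D₂) = f1 z →
      F1 (Submodule.Quotient.mk z) = Submodule.Quotient.mk z')
    (G1 : H1 a₂ b₂ →ₗ[S] H1 a₃ b₃)
    (hG1 : ∀ (z : LinearMap.ker b₂) (z' : LinearMap.ker b₃), (z' : D₃) = g1 z →
      G1 (Submodule.Quotient.mk z) = Submodule.Quotient.mk z')
    (F2 : (E₁ ⧸ LinearMap.range b₁) →ₗ[S] E₂ ⧸ LinearMap.range b₂)
    (hF2 : ∀ e, F2 (Submodule.Quotient.mk e) = Submodule.Quotient.mk (f2 e))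
    (G2 : (E₂ ⧸ LinearMap.range b₂) →ₗ[S] E₃ ⧸ LinearMap.range b₃)
    (hG2 : ∀ e, G2 (Submodule.Quotient.mk e) = Submodule.Quotient.mk (g2 e)) :
    Function.Injective F0 ∧ Function.Exact F0 G0 ∧ Function.Exact F1 G1 ∧ Function.Exact F2 G2 ∧
      ∃ (δ₀ : LinearMap.ker a₃ →ₗ[S] H1 a₁ b₁) (δ₁ : H1 a₃ b₃ →ₗ[S] E₁ ⧸ LinearMap.range b₁),
        Function.Exact G0 δ₀ ∧ Function.Exact δ₀ F1 ∧ Function.Exact G1 δ₁ ∧ Function.Exact δ₁ F2 := by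
  have mem₂ : ∀ d, b₁ d = 0 → b₂ (f1 d) = 0 := fun d hd => by rw [← hfb, hd, map_zero]
  have mem₃ : ∀ d, b₂ d = 0 → b₃ (g1 d) = 0 := fun d hd => by rw [← hgb, hd, map_zero]
  -- the connecting map in degree 0
  let U : Submodule S (C₂ × LinearMap.ker b₁) :=
    LinearMap.ker (a₂ ∘ₗ LinearMap.fst S _ _ - f1 ∘ₗ (LinearMap.ker b₁).subtype ∘ₗ LinearMap.snd S _ _)
  have memU : ∀ p : C₂ × LinearMap.ker b₁, p ∈ U ↔ a₂ p.1 = f1 p.2 := fun p => by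
    change a₂ p.1 - f1 p.2 = 0 ↔ _
    exact sub_eq_zero
  let p₀ : U →ₗ[S] LinearMap.ker a₃ :=
    LinearMap.codRestrict _ (g0 ∘ₗ LinearMap.fst S _ _ ∘ₗ U.subtype) fun p => by
      change a₃ (g0 (p : C₂ × LinearMap.ker b₁).1) = 0
      rw [← hga, (memU p.1).1 p.2, he1.apply_apply_eq_zero]
  have hp₀ : Function.Surjective p₀ := by
    intro x
    obtain ⟨c, hc⟩ := hg0 x
    obtain ⟨d, hd⟩ := (he1 (a₂ c)).1 (by rw [hga, hc]; exact x.2)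
    have hd' : b₁ d = 0 := hf2 (by rw [hfb, hd, hba₂, map_zero])
    exact ⟨⟨(c, ⟨d, hd'⟩), (memU _).2 hd.symm⟩, Subtype.ext hc⟩
  let q₀ : U →ₗ[S] H1 a₁ b₁ := Submodule.mkQ _ ∘ₗ LinearMap.snd S _ _ ∘ₗ U.subtype
  obtain ⟨δ₀, hδ₀⟩ := exists_factor p₀ hp₀ q₀ (fun p hp => by
    obtain ⟨c, hc⟩ := (he0 (p : C₂ × LinearMap.ker b₁).1).1 (congrArg Subtype.val hp)
    refine (Submodule.Quotient.mk_eq_zero _).2 ⟨c, hf1 ?_⟩
    rw [hfa, hc, (memU p.1).1 p.2]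
    rfl)
  have key₀ : ∀ (x : LinearMap.ker a₃) (c : C₂) (z : LinearMap.ker b₁), g0 c = x → a₂ c = f1 z →
      δ₀ x = Submodule.Quotient.mk z := fun x c z hc hz => by
    have : p₀ ⟨(c, z), (memU _).2 hz⟩ = x := Subtype.ext hc
    rw [← this, hδ₀]
    rfl
  -- the connecting map in degree 1
  let V : Submodule S (D₂ × E₁) :=
    LinearMap.ker (b₂ ∘ₗ LinearMap.fst S _ _ - f2 ∘ₗ LinearMap.snd S _ _)
  have memV : ∀ p : D₂ × E₁, p ∈ V ↔ b₂ p.1 = f2 p.2 := fun p => by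
    change b₂ p.1 - f2 p.2 = 0 ↔ _
    exact sub_eq_zero
  let p₁' : V →ₗ[S] LinearMap.ker b₃ :=
    LinearMap.codRestrict _ (g1 ∘ₗ LinearMap.fst S _ _ ∘ₗ V.subtype) fun p => by
      change b₃ (g1 (p : D₂ × E₁).1) = 0
      rw [← hgb, (memV p.1).1 p.2, he2.apply_apply_eq_zero]
  have hp₁' : Function.Surjective p₁' := by
    intro x
    obtain ⟨d, hd⟩ := hg1 x
    obtain ⟨e, he⟩ := (he2 (b₂ d)).1 (by rw [hgb, hd]; exact x.2)
    exact ⟨⟨(d, e), (memV _).2 he.symm⟩, Subtype.ext hd⟩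
  let p₁ : V →ₗ[S] H1 a₃ b₃ := Submodule.mkQ _ ∘ₗ p₁'
  have hp₁ : Function.Surjective p₁ := (Submodule.mkQ_surjective _).comp hp₁'
  let q₁ : V →ₗ[S] E₁ ⧸ LinearMap.range b₁ := Submodule.mkQ _ ∘ₗ LinearMap.snd S _ _ ∘ₗ V.subtype
  obtain ⟨δ₁, hδ₁⟩ := exists_factor p₁ hp₁ q₁ (fun p hp => by
    obtain ⟨c, hc⟩ := (Submodule.Quotient.mk_eq_zero _).1 hp
    obtain ⟨c', rfl⟩ := hg0 c
    have hc' : a₃ (g0 c') = g1 (p : D₂ × E₁).1 := hc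
    obtain ⟨d, hd⟩ := (he1 ((p : D₂ × E₁).1 - a₂ c')).1 (by rw [map_sub, hga, hc', sub_self])
    refine (Submodule.Quotient.mk_eq_zero _).2 ⟨d, hf2 ?_⟩
    rw [hfb, hd, map_sub, hba₂, sub_zero, (memV p.1).1 p.2]
    rfl)
  have key₁ : ∀ (x : LinearMap.ker b₃) (d : D₂) (e : E₁), g1 d = x → b₂ d = f2 e →
      δ₁ (Submodule.Quotient.mk x) = Submodule.Quotient.mk e := fun x d e hd he => by
    have : p₁ ⟨(d, e), (memV _).2 he⟩ = Submodule.Quotient.mk x :=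
      congrArg Submodule.Quotient.mk (Subtype.ext hd)
    rw [← this, hδ₁]
    rfl
  refine ⟨fun x y h => Subtype.ext (hf0 ?_), ?_, ?_, ?_, δ₀, δ₁, ?_, ?_, ?_, ?_⟩
  · rw [← hF0, ← hF0, h]
  · intro x
    constructor
    · intro hx
      obtain ⟨c, hc⟩ := (he0 (x : C₂)).1 (by rw [← hG0, hx]; rfl)
      exact ⟨⟨c, hf1 (by rw [hfa, hc, map_zero]; exact x.2)⟩, Subtype.ext (by rw [hF0]; exact hc)⟩
    · rintro ⟨y, rfl⟩
      exact Subtype.ext (by rw [hG0, hF0, he0.apply_apply_eq_zero]; rfl)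
  · intro x
    obtain ⟨z, rfl⟩ := Submodule.Quotient.mk_surjective _ x
    rw [hG1 z ⟨g1 z, mem₃ _ z.2⟩ rfl]
    constructor
    · intro hx
      obtain ⟨c, hc⟩ := (Submodule.Quotient.mk_eq_zero _).1 hx
      obtain ⟨c', rfl⟩ := hg0 c
      have hc' : a₃ (g0 c') = g1 (z : D₂) := hc
      obtain ⟨d, hd⟩ := (he1 ((z : D₂) - a₂ c')).1 (by rw [map_sub, hga, hc', sub_self])
      have hd' : b₁ d = 0 := hf2 (by rw [hfb, hd, map_sub, hba₂, show b₂ (z : D₂) = 0 from z.2,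
        sub_zero, map_zero])
      refine ⟨Submodule.Quotient.mk ⟨d, hd'⟩, ?_⟩
      rw [hF1 ⟨d, hd'⟩ ⟨f1 d, mem₂ _ hd'⟩ rfl, Submodule.Quotient.eq]
      refine ⟨-c', ?_⟩
      change a₂ (-c') = f1 d - (z : D₂)
      rw [map_neg, hd]
      abel
    · rintro ⟨y, hy⟩
      obtain ⟨w, rfl⟩ := Submodule.Quotient.mk_surjective _ y
      rw [hF1 w ⟨f1 w, mem₂ _ w.2⟩ rfl] at hy
      rw [← hG1 z ⟨g1 z, mem₃ _ z.2⟩ rfl, ← hy, hG1 ⟨f1 w, mem₂ _ w.2⟩ 0 (he1.apply_apply_eq_zero _).symm,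
        Submodule.Quotient.mk_zero]
  · intro x
    obtain ⟨e, rfl⟩ := Submodule.Quotient.mk_surjective _ x
    rw [hG2]
    constructor
    · intro hx
      obtain ⟨d, hd⟩ := (Submodule.Quotient.mk_eq_zero _).1 hx
      obtain ⟨d', rfl⟩ := hg1 d
      obtain ⟨e', he'⟩ := (he2 (e - b₂ d')).1 (by rw [map_sub, hgb, hd, sub_self])
      refine ⟨Submodule.Quotient.mk e', ?_⟩
      rw [hF2, Submodule.Quotient.eq]
      refine ⟨-d', ?_⟩
      rw [map_neg, he']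
      abel
    · rintro ⟨y, hy⟩
      obtain ⟨e', rfl⟩ := Submodule.Quotient.mk_surjective _ y
      rw [hF2] at hy
      rw [← hG2, ← hy, hG2, he2.apply_apply_eq_zero, Submodule.Quotient.mk_zero]
  · intro x
    obtain ⟨⟨⟨c, z⟩, hz⟩, rfl⟩ := hp₀ x
    have hz' : a₂ c = f1 z := (memU _).1 hz
    rw [key₀ _ c z rfl hz']
    constructor
    · intro hx
      obtain ⟨c', hc'⟩ := (Submodule.Quotient.mk_eq_zero _).1 hx
      have hmem : a₂ (c - f0 c') = 0 := by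
        rw [map_sub, ← hfa, hz', show a₁ c' = (z : D₁) from hc', sub_self]
      refine ⟨⟨c - f0 c', hmem⟩, Subtype.ext ?_⟩
      rw [hG0]
      change g0 (c - f0 c') = g0 c
      rw [map_sub, he0.apply_apply_eq_zero, sub_zero]
    · rintro ⟨y, hy⟩
      have hy' : g0 (y : C₂) = g0 c := by rw [← hG0, hy]; rfl
      obtain ⟨c', hc'⟩ := (he0 (c - y)).1 (by rw [map_sub, hy', sub_self])
      refine (Submodule.Quotient.mk_eq_zero _).2 ⟨c', hf1 ?_⟩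
      rw [hfa, hc', map_sub, show a₂ (y : C₂) = 0 from y.2, sub_zero]
      exact hz'
  · intro x
    obtain ⟨z, rfl⟩ := Submodule.Quotient.mk_surjective _ x
    rw [hF1 z ⟨f1 z, mem₂ _ z.2⟩ rfl]
    constructor
    · intro hx
      obtain ⟨c, hc⟩ := (Submodule.Quotient.mk_eq_zero _).1 hx
      have hc' : a₂ c = f1 z := hc
      exact ⟨⟨g0 c, by change a₃ (g0 c) = 0; rw [← hga, hc', he1.apply_apply_eq_zero]⟩,
        key₀ _ c z rfl hc'⟩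
    · rintro ⟨y, hy⟩
      obtain ⟨⟨⟨c, w⟩, hw⟩, rfl⟩ := hp₀ y
      have hw' : a₂ c = f1 w := (memU _).1 hw
      rw [key₀ _ c w rfl hw'] at hy
      rw [← hF1 z ⟨f1 z, mem₂ _ z.2⟩ rfl, ← hy, hF1 w ⟨f1 w, mem₂ _ w.2⟩ rfl]
      exact (Submodule.Quotient.mk_eq_zero _).2 ⟨c, hw'⟩
  · intro x
    obtain ⟨z, rfl⟩ := Submodule.Quotient.mk_surjective _ x
    obtain ⟨⟨⟨d, e⟩, hde⟩, rfl⟩ := hp₁' z
    have hde' : b₂ d = f2 e := (memV _).1 hde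
    rw [key₁ _ d e rfl hde']
    constructor
    · intro hx
      obtain ⟨d', hd'⟩ := (Submodule.Quotient.mk_eq_zero _).1 hx
      have hmem : b₂ (d - f1 d') = 0 := by rw [map_sub, ← hfb, hd', hde', sub_self]
      refine ⟨Submodule.Quotient.mk ⟨d - f1 d', hmem⟩, hG1 _ _ ?_⟩
      change g1 d = g1 (d - f1 d')
      rw [map_sub, he1.apply_apply_eq_zero, sub_zero]
    · rintro ⟨y, hy⟩
      obtain ⟨w, rfl⟩ := Submodule.Quotient.mk_surjective _ y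
      rw [hG1 w ⟨g1 w, mem₃ _ w.2⟩ rfl] at hy
      rw [← key₁ (p₁' ⟨(d, e), hde⟩) d e rfl hde', ← hy,
        key₁ ⟨g1 w, mem₃ _ w.2⟩ (w : D₂) 0 rfl (by rw [map_zero]; exact w.2),
        Submodule.Quotient.mk_zero]
  · intro x
    obtain ⟨e, rfl⟩ := Submodule.Quotient.mk_surjective _ x
    rw [hF2]
    constructor
    · intro hx
      obtain ⟨d, hd⟩ := (Submodule.Quotient.mk_eq_zero _).1 hx
      have hd3 : b₃ (g1 d) = 0 := by rw [← hgb, hd, he2.apply_apply_eq_zero]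
      exact ⟨Submodule.Quotient.mk ⟨g1 d, hd3⟩, key₁ ⟨g1 d, hd3⟩ d e rfl hd⟩
    · rintro ⟨y, hy⟩
      obtain ⟨z, rfl⟩ := Submodule.Quotient.mk_surjective _ y
      obtain ⟨⟨⟨d, e'⟩, hde⟩, rfl⟩ := hp₁' z
      have hde' : b₂ d = f2 e' := (memV _).1 hde
      rw [key₁ _ d e' rfl hde'] at hy
      rw [← hF2, ← hy, hF2]
      exact (Submodule.Quotient.mk_eq_zero _).2 ⟨d, hde'⟩

end CotT85
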