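import Groth.Agent.CotT85.CompPres
import Groth.Agent.CotT85.Snake

/-!
# The nine term sequence of `A → B → C`
-/

set_option autoImplicit false

universe u m

open TensorProduct

noncomputable section

namespace CotT85

variable {A B C : Type u} [CommRing A] [CommRing B] [CommRing C] [Algebra A B] [Algebra B C]
  [Algebra A C] [IsScalarTower A B C]
variable {ι σ ι' σ' : Type u}
variable (Q : Algebra.Presentation B C ι' σ') (P : Algebra.Presentation A B ι σ)
variable (M : Type m) [AddCommGroup M] [Module C M] [Module B M] [IsScalarTower B C M]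

lemma proj_L0map_inl (j : ι') :
    (projHom Q P).L0map ((Q.comp P).cotangentSpaceBasis (Sum.inl j)) = Q.cotangentSpaceBasis j := by
  rw [L0map_basis, basis_eq_tmul]; rfl

lemma proj_L0map_inr (j : ι) :
    (projHom Q P).L0map ((Q.comp P).cotangentSpaceBasis (Sum.inr j)) = 0 := by
  rw [L0map_basis]
  have h : hval (projHom Q P) (Sum.inr j) = rC Q (P.val j) := rfl
  erw [h]
  rw [rC_eq_algebraMap, Derivation.map_algebraMap, tmul_zero]

lemma incl_L0map_basis (j : ι) :
    (inclHom Q P).L0map (P.cotangentSpaceBasis j) = (Q.comp P).cotangentSpaceBasis (Sum.inr j) := by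
  rw [L0map_basis, basis_eq_tmul]; rfl

lemma proj_L1map_inl (s : σ') :
    (projHom Q P).L1map (CotT.L1basis (Q.comp P) (Sum.inl s)) = CotT.L1basis Q s := by
  rw [CotT.L1basis_apply, CotT.L1basis_apply, L1map_one_tmul, CotT.PresHom.relModMap_single, map_one,
    one_smul]
  rfl

lemma proj_L1map_inr (s : σ) :
    (projHom Q P).L1map (CotT.L1basis (Q.comp P) (Sum.inr s)) = 0 := by
  rw [CotT.L1basis_apply, L1map_one_tmul, CotT.PresHom.relModMap_single]
  change (1 : C) ⊗ₜ (_ • (0 : CotT.relMod Q)) = (0 : CotT.L1 Q)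
  rw [smul_zero, tmul_zero]

lemma incl_L1map_basis (s : σ) :
    (inclHom Q P).L1map (CotT.L1basis P s) = CotT.L1basis (Q.comp P) (Sum.inr s) := by
  rw [CotT.L1basis_apply, CotT.L1basis_apply, L1map_one_tmul, CotT.PresHom.relModMap_single, map_one,
    one_smul]
  rfl

/-- A linear map vanishing on the kernel of a semilinear surjection over the identity factors. -/
lemma exists_factor_semilinear {R : Type u} [CommRing R] {X Y : Type u} [AddCommGroup X] [Module R X]
    [AddCommGroup Y] [Module R Y] {N : Type m} [AddCommGroup N] [Module R N] {τ : R →+* R} (hτ : τ = RingHom.id R)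
    (f : X →ₛₗ[τ] Y) (hf : Function.Surjective f) (φ : X →ₗ[R] N) (h : ∀ x, f x = 0 → φ x = 0) :
    ∃ ψ : Y →ₗ[R] N, ∀ x, ψ (f x) = φ x := by
  subst hτ
  exact exists_factor f hf φ h

theorem pull0_facts :
    Function.Injective ((projHom Q P).pull0 M) ∧
      Function.Exact ((projHom Q P).pull0 M) ((inclHom Q P).pull0 M) ∧
      Function.Surjective ((inclHom Q P).pull0 M) := by
  refine ⟨fun a b h => Q.cotangentSpaceBasis.ext fun j => ?_, fun ψ => ?_, fun φ => ?_⟩
  · have := LinearMap.congr_fun h ((Q.comp P).cotangentSpaceBasis (Sum.inl j))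
    rw [CotT.PresHom.pull0_apply, CotT.PresHom.pull0_apply, proj_L0map_inl] at this
    exact this
  · constructor
    · intro hψ
      refine ⟨Q.cotangentSpaceBasis.constr ℕ fun j => ψ ((Q.comp P).cotangentSpaceBasis (Sum.inl j)), ?_⟩
      refine (Q.comp P).cotangentSpaceBasis.ext fun k => ?_
      cases k with
      | inl j => rw [CotT.PresHom.pull0_apply, proj_L0map_inl, Module.Basis.constr_basis]
      | inr j =>
        rw [CotT.PresHom.pull0_apply, proj_L0map_inr, map_zero]
        have := LinearMap.congr_fun hψ (P.cotangentSpaceBasis j)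
        rw [CotT.PresHom.pull0_apply, incl_L0map_basis] at this
        exact this.symm
    · rintro ⟨φ, rfl⟩
      refine P.cotangentSpaceBasis.ext fun j => ?_
      rw [CotT.PresHom.pull0_apply, incl_L0map_basis, CotT.PresHom.pull0_apply, proj_L0map_inr, map_zero,
        LinearMap.zero_apply]
  · refine ⟨(Q.comp P).cotangentSpaceBasis.constr ℕ
      (Sum.elim (fun _ => 0) fun j => φ (P.cotangentSpaceBasis j)), ?_⟩
    refine P.cotangentSpaceBasis.ext fun j => ?_
    rw [CotT.PresHom.pull0_apply, incl_L0map_basis, Module.Basis.constr_basis, Sum.elim_inr]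

theorem pull1_facts :
    Function.Injective ((projHom Q P).pull1 M) ∧
      Function.Exact ((projHom Q P).pull1 M) ((inclHom Q P).pull1 M) ∧
      Function.Surjective ((inclHom Q P).pull1 M) := by
  refine ⟨fun a b h => (CotT.L1basis Q).ext fun j => ?_, fun ψ => ?_, fun φ => ?_⟩
  · have := LinearMap.congr_fun h (CotT.L1basis (Q.comp P) (Sum.inl j))
    rw [CotT.PresHom.pull1_apply, CotT.PresHom.pull1_apply, proj_L1map_inl] at this
    exact this
  · constructor
    · intro hψ
      refine ⟨(CotT.L1basis Q).constr ℕ fun j => ψ (CotT.L1basis (Q.comp P) (Sum.inl j)), ?_⟩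
      refine (CotT.L1basis (Q.comp P)).ext fun k => ?_
      cases k with
      | inl j => rw [CotT.PresHom.pull1_apply, proj_L1map_inl, Module.Basis.constr_basis]
      | inr j =>
        rw [CotT.PresHom.pull1_apply, proj_L1map_inr, map_zero]
        have := LinearMap.congr_fun hψ (CotT.L1basis P j)
        rw [CotT.PresHom.pull1_apply, incl_L1map_basis] at this
        exact this.symm
    · rintro ⟨φ, rfl⟩
      refine (CotT.L1basis P).ext fun j => ?_
      rw [CotT.PresHom.pull1_apply, incl_L1map_basis, CotT.PresHom.pull1_apply, proj_L1map_inr, map_zero,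
        LinearMap.zero_apply]
  · refine ⟨(CotT.L1basis (Q.comp P)).constr ℕ
      (Sum.elim (fun _ => 0) fun j => φ (CotT.L1basis P j)), ?_⟩
    refine (CotT.L1basis P).ext fun j => ?_
    rw [CotT.PresHom.pull1_apply, incl_L1map_basis, Module.Basis.constr_basis, Sum.elim_inr]

theorem pull2_facts :
    Function.Injective ((projHom Q P).pull2 M) ∧
      Function.Exact ((projHom Q P).pull2 M) ((inclHom Q P).pull2 M) := by
  refine ⟨fun a b h => LinearMap.ext fun z => ?_, fun ψ => ?_⟩
  · obtain ⟨z, rfl⟩ := proj_L2map_surjective Q P z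
    exact LinearMap.congr_fun h z
  · constructor
    · intro hψ
      obtain ⟨φ, hφ⟩ := exists_factor_semilinear rfl (projHom Q P).L2map (proj_L2map_surjective Q P) ψ
        (fun z hz => by
          have hmem := ker_proj_L2map Q P hz
          have hle : Submodule.span C (Set.range (inclHom Q P).L2map) ≤ LinearMap.ker ψ := by
            rw [Submodule.span_le]
            rintro _ ⟨y, rfl⟩
            exact LinearMap.congr_fun hψ y
          exact hle hmem)
      exact ⟨φ, LinearMap.ext hφ⟩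
    · rintro ⟨φ, rfl⟩
      refine LinearMap.ext fun z => ?_
      obtain ⟨q, rfl⟩ := mk2_surjective P z
      rw [CotT.PresHom.pull2_apply, CotT.PresHom.pull2_apply, L2map_mk2, L2map_mk2, LinearMap.zero_apply]
      rw [show (projHom Q P).relKerMap ((inclHom Q P).relKerMap q) = 0 from
        Subtype.ext (proj_incl_relModMap Q P q), mk2_zero, map_zero]

/-- The nine term sequence for the composite presentation. -/
theorem nine_term_comp :
    Function.Injective ((projHom Q P).T0pull M) ∧
    Function.Exact ((projHom Q P).T0pull M) ((inclHom Q P).T0pull M) ∧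
    Function.Exact ((projHom Q P).T1pull M) ((inclHom Q P).T1pull M) ∧
    Function.Exact ((projHom Q P).T2pull M) ((inclHom Q P).T2pull M) ∧
    ∃ (δ₀ : CotT.T0 P M →+ CotT.T1 Q M) (δ₁ : CotT.T1 P M →+ CotT.T2 Q M),
      Function.Exact ((inclHom Q P).T0pull M) δ₀ ∧ Function.Exact δ₀ ((projHom Q P).T1pull M) ∧
      Function.Exact ((inclHom Q P).T1pull M) δ₁ ∧ Function.Exact δ₁ ((projHom Q P).T2pull M) := by
  obtain ⟨i0, e0, s0⟩ := pull0_facts Q P M
  obtain ⟨i1, e1, s1⟩ := pull1_facts Q P M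
  obtain ⟨i2, e2⟩ := pull2_facts Q P M
  obtain ⟨h1, h2, h3, h4, δ₀, δ₁, h5, h6, h7, h8⟩ := nine_term (S := B)
    ((CotT.d1Star Q M).restrictScalars B) ((CotT.d2Star Q M).restrictScalars B)
    ((CotT.d1Star (Q.comp P) M).restrictScalars B) ((CotT.d2Star (Q.comp P) M).restrictScalars B)
    (CotT.d1Star P M) (CotT.d2Star P M)
    (((projHom Q P).pull0 M).restrictScalars B) ((inclHom Q P).pull0 M)
    (((projHom Q P).pull1 M).restrictScalars B) ((inclHom Q P).pull1 M)
    (((projHom Q P).pull2 M).restrictScalars B) ((inclHom Q P).pull2 M)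
    (fun c => LinearMap.congr_fun (CotT.d2Star_comp_d1Star (Q.comp P) M) c)
    (fun c => (projHom Q P).pull1_d1Star M c) (fun c => (inclHom Q P).pull1_d1Star M c)
    (fun c => (projHom Q P).pull2_d2Star M c) (fun c => (inclHom Q P).pull2_d2Star M c)
    i0 i1 i2 e0 e1 e2 s0 s1
    (((projHom Q P).T0pull M).restrictScalars B) (fun _ => rfl)
    ((inclHom Q P).T0pull M) (fun _ => rfl)
    (((projHom Q P).T1pull M).restrictScalars B)
    (fun z z' h => congrArg Submodule.Quotient.mk (Subtype.ext h.symm))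
    ((inclHom Q P).T1pull M) (fun z z' h => congrArg Submodule.Quotient.mk (Subtype.ext h.symm))
    (((projHom Q P).T2pull M).restrictScalars B) (fun _ => rfl)
    ((inclHom Q P).T2pull M) (fun _ => rfl)
  exact ⟨h1, h2, h3, h4, δ₀.toAddMonoidHom, δ₁.toAddMonoidHom, h5, h6, h7, h8⟩

/-- Replacing the middle presentation. -/
theorem nine_term_of_presHom {ι'' σ'' : Type u} (R : Algebra.Presentation A C ι'' σ'')
    (f : CotT.PresHom R Q) (g : CotT.PresHom P R) :
    Function.Injective (f.T0pull M) ∧ Function.Exact (f.T0pull M) (g.T0pull M) ∧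
    Function.Exact (f.T1pull M) (g.T1pull M) ∧ Function.Exact (f.T2pull M) (g.T2pull M) ∧
    ∃ (δ₀ : CotT.T0 P M →+ CotT.T1 Q M) (δ₁ : CotT.T1 P M →+ CotT.T2 Q M),
      Function.Exact (g.T0pull M) δ₀ ∧ Function.Exact δ₀ (f.T1pull M) ∧
      Function.Exact (g.T1pull M) δ₁ ∧ Function.Exact δ₁ (f.T2pull M) := by
  obtain ⟨h1, h2, h3, h4, δ₀, δ₁, h5, h6, h7, h8⟩ := nine_term_comp Q P M
  let h : CotT.PresHom (Q.comp P) R := somePresHom _ _
  have p0 : ∀ x, (projHom Q P).T0pull M x = h.T0pull M (f.T0pull M x) := fun x => by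
    rw [← T0pull_comp h f M x, T0pull_eq (comp h f) (projHom Q P)]
  have p1 : ∀ x, (projHom Q P).T1pull M x = h.T1pull M (f.T1pull M x) := fun x => by
    rw [← T1pull_comp h f M x, T1pull_eq (comp h f) (projHom Q P)]
  have p2 : ∀ x, (projHom Q P).T2pull M x = h.T2pull M (f.T2pull M x) := fun x => by
    rw [← T2pull_comp h f M x, T2pull_eq (comp h f) (projHom Q P)]
  have q0 : ∀ x, g.T0pull M x = (inclHom Q P).T0pull M (h.T0pull M x) := fun x => by
    rw [← T0pull_comp (inclHom Q P) h M x, T0pull_eq (comp (inclHom Q P) h) g]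
  have q1 : ∀ x, g.T1pull M x = (inclHom Q P).T1pull M (h.T1pull M x) := fun x => by
    rw [← T1pull_comp (inclHom Q P) h M x, T1pull_eq (comp (inclHom Q P) h) g]
  have q2 : ∀ x, g.T2pull M x = (inclHom Q P).T2pull M (h.T2pull M x) := fun x => by
    rw [← T2pull_comp (inclHom Q P) h M x, T2pull_eq (comp (inclHom Q P) h) g]
  have b0 := T0pull_bijective M h
  have b1 := T1pull_bijective M h
  have b2 := T2pull_bijective M h
  refine ⟨fun a b hab => h1 (by rw [p0, p0, hab]), ?_, ?_, ?_, δ₀, δ₁, ?_, ?_, ?_, ?_⟩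
  · intro x
    rw [q0, h2 (h.T0pull M x)]
    exact ⟨fun ⟨y, hy⟩ => ⟨y, b0.1 (by rw [← p0]; exact hy)⟩, fun ⟨y, hy⟩ => ⟨y, by rw [p0, hy]⟩⟩
  · intro x
    rw [q1, h3 (h.T1pull M x)]
    exact ⟨fun ⟨y, hy⟩ => ⟨y, b1.1 (by rw [← p1]; exact hy)⟩, fun ⟨y, hy⟩ => ⟨y, by rw [p1, hy]⟩⟩
  · intro x
    rw [q2, h4 (h.T2pull M x)]
    exact ⟨fun ⟨y, hy⟩ => ⟨y, b2.1 (by rw [← p2]; exact hy)⟩, fun ⟨y, hy⟩ => ⟨y, by rw [p2, hy]⟩⟩
  · intro x
    rw [h5 x]
    constructor
    · rintro ⟨y, hy⟩
      obtain ⟨z, rfl⟩ := b0.2 y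
      exact ⟨z, by rw [q0, hy]⟩
    · rintro ⟨y, hy⟩
      exact ⟨h.T0pull M y, by rw [← q0, hy]⟩
  · intro x
    rw [← h6 x, p1]
    exact ⟨fun hx => by rw [hx, map_zero], fun hx => b1.1 (by rw [hx, map_zero])⟩
  · intro x
    rw [h7 x]
    constructor
    · rintro ⟨y, hy⟩
      obtain ⟨z, rfl⟩ := b1.2 y
      exact ⟨z, by rw [q1, hy]⟩
    · rintro ⟨y, hy⟩
      exact ⟨h.T1pull M y, by rw [← q1, hy]⟩
  · intro x
    rw [← h8 x, p2]
    exact ⟨fun hx => by rw [hx, map_zero], fun hx => b2.1 (by rw [hx, map_zero])⟩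

end CotT85
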