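import Groth.Agent.CotT85.Vanishing

/-!
# `T²` over the polynomial ring of a presentation
-/

set_option autoImplicit false

universe u v w t u' w' t' m

open TensorProduct

noncomputable section

namespace CotT85

section Iso

variable {A : Type u} {A' : Type u'} {B : Type v} {ι : Type w} {σ : Type t} {ι' : Type w'}
variable [CommRing A] [CommRing A'] [CommRing B] [Algebra A B] [Algebra A' B] [Algebra A A']
  [IsScalarTower A A' B]
variable {P : Algebra.Presentation A B ι σ} {P' : Algebra.Presentation A' B ι' σ}

theorem T2pull_bijective_of_ringHom_bijective (h : CotT.PresHom P P')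
    (hτ : Function.Bijective h.ringHom) (hrel : ∀ s, h.relVal s = Finsupp.single s 1)
    (M : Type m) [AddCommGroup M] [Module B M] : Function.Bijective (h.T2pull M) := by
  have hmap : ∀ f : CotT.relMod P, h.relModMap f = Finsupp.mapRange h.ringHom (map_zero _) f := by
    intro f
    induction f using Finsupp.induction_linear with
    | zero => simp
    | add f g hf hg => rw [map_add, hf, hg, Finsupp.mapRange_add (map_add _)]
    | single s r =>
      rw [CotT.PresHom.relModMap_single, hrel, Finsupp.smul_single, smul_eq_mul, mul_one,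
        Finsupp.mapRange_single]
  have hbij : Function.Bijective h.relModMap := by
    rw [show (h.relModMap : CotT.relMod P → CotT.relMod P') = Finsupp.mapRange h.ringHom (map_zero _) from
      funext hmap]
    exact ⟨Finsupp.mapRange_injective _ _ hτ.1, Finsupp.mapRange_surjective _ _ hτ.2⟩
  have htriv : ∀ y ∈ CotT.trivRel P', ∃ x ∈ CotT.trivRel P, h.relModMap x = y := by
    intro y hy
    induction hy using Submodule.span_induction with
    | mem y hy =>
      obtain ⟨a, b, rfl⟩ := hy
      obtain ⟨a, rfl⟩ := hbij.2 a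
      obtain ⟨b, rfl⟩ := hbij.2 b
      refine ⟨CotT.jmap P a • b - CotT.jmap P b • a, Submodule.subset_span ⟨a, b, rfl⟩, ?_⟩
      rw [map_sub, LinearMap.map_smulₛₗ, LinearMap.map_smulₛₗ, CotT.PresHom.jmap_relModMap,
        CotT.PresHom.jmap_relModMap]
    | zero => exact ⟨0, zero_mem _, map_zero _⟩
    | add x y _ _ hx hy =>
      obtain ⟨x, hx', rfl⟩ := hx
      obtain ⟨y, hy', rfl⟩ := hy
      exact ⟨x + y, add_mem hx' hy', map_add _ _ _⟩
    | smul r x _ hx =>
      obtain ⟨x, hx', rfl⟩ := hx
      obtain ⟨r, rfl⟩ := hτ.2 r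
      exact ⟨r • x, Submodule.smul_mem _ _ hx', LinearMap.map_smulₛₗ _ _ _⟩
  have hker : ∀ f : CotT.relMod P, h.relModMap f ∈ CotT.relKer P' → f ∈ CotT.relKer P := by
    intro f hf
    change CotT.jmap P' (h.relModMap f) = 0 at hf
    rw [CotT.PresHom.jmap_relModMap] at hf
    exact hτ.1 (hf.trans (map_zero _).symm)
  have h2 : Function.Bijective h.L2map := by
    constructor
    · refine (injective_iff_map_eq_zero _).2 fun z hz => ?_
      obtain ⟨q, rfl⟩ := mk2_surjective P z
      rw [L2map_mk2, mk2_eq_zero_iff] at hz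
      obtain ⟨x, hx, hxq⟩ := htriv _ hz
      rw [CotT.PresHom.relKerMap_coe] at hxq
      exact mk2_eq_zero P (by rw [← hbij.1 hxq]; exact hx)
    · intro z
      obtain ⟨q, rfl⟩ := mk2_surjective P' z
      obtain ⟨f, hf⟩ := hbij.2 (q : CotT.relMod P')
      refine ⟨mk2 P ⟨f, hker f (by rw [hf]; exact q.2)⟩, ?_⟩
      rw [L2map_mk2]
      exact congrArg _ (Subtype.ext hf)
  have h1 : Function.Surjective h.L1map := by
    intro z
    obtain ⟨f', rfl⟩ := exists_one_tmul_eq P' z
    obtain ⟨f, rfl⟩ := hbij.2 f'
    exact ⟨(1 : B) ⊗ₜ f, L1map_one_tmul h f⟩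
  -- the inverse on `L₁` exists since `F → F'` is bijective
  have h1' : Function.Injective h.L1map := by
    refine (injective_iff_map_eq_zero _).2 fun z hz => ?_
    obtain ⟨f, rfl⟩ := exists_one_tmul_eq P z
    have hcoef : ∀ s, algebraMap P'.toExtension.Ring B ((h.relModMap f) s) = 0 := by
      intro s
      rw [L1map_one_tmul] at hz
      have h0 := congrArg (fun x => (CotT.L1basis P').repr x s) hz
      simpa [CotT.L1basis, Algebra.smul_def] using h0
    have hcoef' : ∀ s, algebraMap P.toExtension.Ring B (f s) = 0 := by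
      intro s
      have h0 := hcoef s
      rw [hmap, Finsupp.mapRange_apply, h.algebraMap_ringHom] at h0
      exact h0
    rw [← Finsupp.sum_single f, Finsupp.sum, tmul_sum]
    refine Finset.sum_eq_zero fun s _ => ?_
    rw [← mul_one (f s), ← smul_eq_mul, ← Finsupp.smul_single]
    exact one_tmul_smul_eq_zero P (hcoef' s) _
  constructor
  · refine (injective_iff_map_eq_zero _).2 fun x hx => ?_
    obtain ⟨ψ, rfl⟩ := Submodule.Quotient.mk_surjective _ x
    obtain ⟨φ, hφ⟩ := (Submodule.Quotient.mk_eq_zero (p := LinearMap.range (CotT.d2Star P M))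
      (x := h.pull2 M ψ)).1 hx
    let e : CotT.L1 P ≃ₗ[B] CotT.L1 P' :=
      LinearEquiv.ofBijective (CotT.PresHom.linOfSemilinear (CotT.L1 P') h.L1map) ⟨h1', h1⟩
    refine (Submodule.Quotient.mk_eq_zero _).2 ⟨φ ∘ₗ e.symm.toLinearMap, LinearMap.ext fun z => ?_⟩
    obtain ⟨z, rfl⟩ := h2.2 z
    change φ (e.symm (CotT.d2 P' (h.L2map z))) = ψ (h.L2map z)
    rw [CotT.PresHom.d2_L2map, show e.symm (h.L1map (CotT.d2 P z)) = CotT.d2 P z from e.symm_apply_apply _]
    exact LinearMap.congr_fun hφ z
  · intro x
    obtain ⟨ψ, rfl⟩ := Submodule.Quotient.mk_surjective _ x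
    let e : CotT.L2 P ≃ₗ[B] CotT.L2 P' :=
      LinearEquiv.ofBijective (CotT.PresHom.linOfSemilinear (CotT.L2 P') h.L2map) h2
    refine ⟨Submodule.Quotient.mk (ψ ∘ₗ e.symm.toLinearMap), congrArg Submodule.Quotient.mk
      (LinearMap.ext fun z => ?_)⟩
    change ψ (e.symm (h.L2map z)) = ψ z
    rw [show e.symm (h.L2map z) = z from e.symm_apply_apply _]

end Iso

section Over

variable {k : Type u} {B : Type v} {ι : Type w} {σ : Type t} [CommRing k] [CommRing B] [Algebra k B]
variable (P : Algebra.Presentation k B ι σ)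

/-- The presentation of `B` over the polynomial ring of `P`. -/
def overPoly : Algebra.Presentation P.toExtension.Ring B PEmpty.{w' + 1} σ :=
  surjPres P.toExtension.algebraMap_surjective (CotT.rel P) P.span_range_relation_eq_ker

/-- `P → overPoly P`. -/
def toOverPoly : CotT.PresHom P (overPoly.{u, v, w, t, w'} P) where
  hom :=
    { val := fun i => MvPolynomial.C (rX P i)
      aeval_val := fun i => by
        rw [MvPolynomial.aeval_C, algebraMap_rX]
        rfl }
  relVal s := Finsupp.single s 1
  jmap_relVal s := by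
    rw [CotT.jmap_single, one_mul]
    have : ∀ r : P.toExtension.Ring,
        Algebra.Generators.Hom.toAlgHom (P := P.toGenerators) (P' := (overPoly.{u, v, w, t, w'} P).toGenerators)
          { val := fun i => MvPolynomial.C (rX P i)
            aeval_val := fun i => by
              rw [MvPolynomial.aeval_C, algebraMap_rX]
              rfl } r = MvPolynomial.C r := by
      intro r
      induction r using ring_induction with
      | C a => exact Algebra.Generators.Hom.toAlgHom_C _ a
      | add p q hp hq => erw [map_add, map_add]; erw [hp, hq]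
      | mul_X p i hp => erw [map_mul, map_mul, hp, Algebra.Generators.Hom.toAlgHom_X]
    exact (this (CotT.rel P s)).symm

theorem T2pull_toOverPoly_bijective (M : Type m) [AddCommGroup M] [Module B M] :
    Function.Bijective ((toOverPoly.{u, v, w, t, w'} P).T2pull M) := by
  refine T2pull_bijective_of_ringHom_bijective _ ?_ (fun s => rfl) M
  have : ∀ r, (toOverPoly.{u, v, w, t, w'} P).ringHom r = rC (overPoly.{u, v, w, t, w'} P) r := by
    intro r
    induction r using ring_induction with
    | C a => rw [ringHom_C]; rfl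
    | add p q hp hq => rw [map_add, map_add, hp, hq]
    | mul_X p i hp => rw [map_mul, map_mul, hp, ringHom_X]; rfl
  rw [show ((toOverPoly.{u, v, w, t, w'} P).ringHom : P.toExtension.Ring → _) =
    rC (overPoly.{u, v, w, t, w'} P) from funext this]
  exact ⟨MvPolynomial.C_injective PEmpty _, MvPolynomial.C_surjective PEmpty⟩

theorem nonempty_T2_equiv {ι' : Type w'} {σ' : Type t'}
    (P' : Algebra.Presentation P.toExtension.Ring B ι' σ') (M : Type m) [AddCommGroup M] [Module B M] :
    Nonempty (CotT.T2 P' M ≃ₗ[B] CotT.T2 P M) :=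
  ⟨(T2equiv M P' (overPoly.{u, v, w, t, w'} P)).trans
    (LinearEquiv.ofBijective _ (T2pull_toOverPoly_bijective.{u, v, w, t, w'} P M))⟩

end Over

end CotT85
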