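import Mathlib.RingTheory.RingHom.Surjective
import Groth.Agent.CAlg1.Regular
import Mathlib.RingTheory.RegularLocalRing.Polynomial
import Groth.Agent.CotT85.Criterion
import Groth.Agent.CotT85.Vanishing
import Groth.Agent.CotT85.Loc

/-!
# `L₂ → L₁` is injective for a regular algebra of finite type over a field
-/

set_option autoImplicit false

universe u v w t u' w'

open TensorProduct IsLocalRing

noncomputable section

namespace CotT85

section Localized

variable {A : Type u} {B : Type v} {ι : Type w} {σ : Type t} {A' : Type u'} {B' : Type v} {ι' : Type w'}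
variable [CommRing A] [CommRing B] [Algebra A B] [CommRing A'] [CommRing B'] [Algebra A' B']
variable [Algebra A A'] [Algebra B B'] [Algebra A B'] [IsScalarTower A A' B'] [IsScalarTower A B B']
variable {P : Algebra.Presentation A B ι σ} {P' : Algebra.Presentation A' B' ι' σ}

/-- Triviality of a relation after localizing gives triviality after multiplication by a denominator. -/
theorem exists_smul_mem_trivRel (h : CotT.PresHom P P') (S : Submonoid P.toExtension.Ring)
    (hsurj : ∀ x : P'.toExtension.Ring, ∃ a, ∃ s ∈ S, h.ringHom s * x = h.ringHom a)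
    (hinj : ∀ a, h.ringHom a = 0 → ∃ s ∈ S, s * a = 0)
    (hrel : ∀ s, h.relVal s = Finsupp.single s 1)
    (q : CotT.relMod P) (hq : h.relModMap q ∈ CotT.trivRel P') : ∃ s ∈ S, s • q ∈ CotT.trivRel P := by
  classical
  have hsingle : ∀ s r, h.relModMap (Finsupp.single s r) = Finsupp.single s (h.ringHom r) := fun s r => by
    rw [CotT.PresHom.relModMap_single, hrel, Finsupp.smul_single, smul_eq_mul, mul_one]
  have hsurjF : ∀ y : CotT.relMod P', ∃ x, ∃ s ∈ S, h.ringHom s • y = h.relModMap x := by
    intro y
    induction y using Finsupp.induction_linear with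
    | zero => exact ⟨0, 1, one_mem S, by rw [smul_zero, map_zero]⟩
    | add f g hf hg =>
      obtain ⟨x, s, hs, hx⟩ := hf
      obtain ⟨x', s', hs', hx'⟩ := hg
      refine ⟨s' • x + s • x', s * s', mul_mem hs hs', ?_⟩
      rw [map_add, LinearMap.map_smulₛₗ, LinearMap.map_smulₛₗ, ← hx, ← hx', map_mul, smul_smul, smul_smul,
        mul_comm (h.ringHom s') (h.ringHom s), smul_add]
    | single j r =>
      obtain ⟨a, s, hs, ha⟩ := hsurj r
      exact ⟨Finsupp.single j a, s, hs, by rw [Finsupp.smul_single, smul_eq_mul, ha, hsingle]⟩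
  have hinjF : ∀ f : CotT.relMod P, h.relModMap f = 0 → ∃ s ∈ S, s • f = 0 := by
    intro f hf
    have hmap : ∀ f : CotT.relMod P, ∀ j, h.relModMap f j = h.ringHom (f j) := by
      intro f j
      induction f using Finsupp.induction_linear with
      | zero => rw [map_zero, Finsupp.zero_apply, Finsupp.zero_apply, map_zero]
      | add f g hf hg => rw [map_add, Finsupp.add_apply, hf, hg, Finsupp.add_apply, map_add]
      | single s r =>
        rw [hsingle]
        by_cases hsj : s = j
        · subst hsj; simp
        · rw [Finsupp.single_eq_of_ne (Ne.symm hsj), Finsupp.single_eq_of_ne (Ne.symm hsj), map_zero]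
    choose s hs hsf using fun j => hinj (f j) (by rw [← hmap, hf, Finsupp.zero_apply])
    refine ⟨∏ j ∈ f.support, s j, prod_mem fun j _ => hs j, Finsupp.ext fun j => ?_⟩
    rw [Finsupp.smul_apply, smul_eq_mul, Finsupp.zero_apply]
    by_cases hj : j ∈ f.support
    · rw [← Finset.prod_erase_mul _ _ hj, mul_assoc, hsf, mul_zero]
    · rw [Finsupp.notMem_support_iff.1 hj, mul_zero]
  have key : ∀ y ∈ CotT.trivRel P', ∃ x ∈ CotT.trivRel P, ∃ s ∈ S, h.ringHom s • y = h.relModMap x := by
    intro y hy
    induction hy using Submodule.span_induction with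
    | mem y hy =>
      obtain ⟨a, b, rfl⟩ := hy
      obtain ⟨a', s, hs, ha⟩ := hsurjF a
      obtain ⟨b', s', hs', hb⟩ := hsurjF b
      refine ⟨CotT.jmap P a' • b' - CotT.jmap P b' • a', Submodule.subset_span ⟨a', b', rfl⟩,
        s * s', mul_mem hs hs', ?_⟩
      rw [map_sub, LinearMap.map_smulₛₗ, LinearMap.map_smulₛₗ, ← CotT.PresHom.jmap_relModMap,
        ← CotT.PresHom.jmap_relModMap, ← ha, ← hb, map_smul, map_smul, smul_sub, map_mul]
      simp only [smul_eq_mul, smul_smul]
      congr 2 <;> ring
    | zero => exact ⟨0, zero_mem _, 1, one_mem S, by rw [smul_zero, map_zero]⟩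
    | add x y _ _ hx hy =>
      obtain ⟨x', hx', s, hs, e⟩ := hx
      obtain ⟨y', hy', s', hs', e'⟩ := hy
      refine ⟨s' • x' + s • y', add_mem (Submodule.smul_mem _ _ hx') (Submodule.smul_mem _ _ hy'),
        s * s', mul_mem hs hs', ?_⟩
      rw [map_add, LinearMap.map_smulₛₗ, LinearMap.map_smulₛₗ, ← e, ← e', map_mul, smul_smul, smul_smul,
        mul_comm (h.ringHom s') (h.ringHom s), smul_add]
    | smul r x _ hx =>
      obtain ⟨x', hx', s, hs, e⟩ := hx
      obtain ⟨a, s', hs', hr⟩ := hsurj r
      refine ⟨a • x', Submodule.smul_mem _ _ hx', s * s', mul_mem hs hs', ?_⟩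
      rw [LinearMap.map_smulₛₗ, ← e, ← hr, map_mul, smul_smul, smul_smul]
      congr 1
      ring
  obtain ⟨x, hx, s, hs, e⟩ := key _ hq
  have h0 : h.relModMap (s • q - x) = 0 := by rw [map_sub, LinearMap.map_smulₛₗ, e, sub_self]
  obtain ⟨s', hs', h1⟩ := hinjF _ h0
  refine ⟨s' * s, mul_mem hs' hs, ?_⟩
  rw [smul_sub, sub_eq_zero] at h1
  rw [mul_smul, h1]
  exact Submodule.smul_mem _ _ hx

end Localized

section LocalHom

variable {R B : Type u} [CommRing R] [CommRing B]

lemma localRingHom_surjective_ker (f : R →+* B) (hf : Function.Surjective f) (m : Ideal B) [m.IsPrime] :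
    Function.Surjective (Localization.localRingHom (m.comap f) m f rfl) ∧
      RingHom.ker (Localization.localRingHom (m.comap f) m f rfl) =
        (RingHom.ker f).map (algebraMap R (Localization.AtPrime (m.comap f))) := by
  constructor
  · intro y
    obtain ⟨⟨b, s⟩, rfl⟩ := IsLocalization.mk'_surjective m.primeCompl y
    obtain ⟨r, rfl⟩ := hf b
    obtain ⟨t, ht⟩ := hf (s : B)
    refine ⟨IsLocalization.mk' _ r (⟨t, fun h => s.2 (ht ▸ h)⟩ : (m.comap f).primeCompl), ?_⟩
    rw [Localization.localRingHom_mk']
    congr 1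
    exact Subtype.ext ht
  · refine le_antisymm (fun x hx => ?_) (Ideal.map_le_iff_le_comap.2 fun r hr => ?_)
    · obtain ⟨⟨r, s⟩, rfl⟩ := IsLocalization.mk'_surjective (m.comap f).primeCompl x
      rw [RingHom.mem_ker, Localization.localRingHom_mk', IsLocalization.mk'_eq_zero_iff] at hx
      obtain ⟨⟨t, ht⟩, htr⟩ := hx
      obtain ⟨t', rfl⟩ := hf t
      have ht' : t' * r ∈ RingHom.ker f := by rw [RingHom.mem_ker, map_mul]; exact htr
      refine (IsLocalization.mk'_mem_map_algebraMap_iff (m.comap f).primeCompl
        (Localization.AtPrime (m.comap f)) (RingHom.ker f) r s).2 ⟨t', ht, ht'⟩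
    · rw [Ideal.mem_comap, RingHom.mem_ker, Localization.localRingHom_to_map, RingHom.mem_ker.1 hr,
        map_zero]

/-- A regular quotient of a regular local ring is cut out by a weakly regular sequence. -/
theorem exists_weaklyRegular_of_regular_quotient [IsRegularLocalRing R] [IsRegularLocalRing B]
    (f : R →+* B) (hf : Function.Surjective f) :
    ∃ rs : List R, RingTheory.Sequence.IsWeaklyRegular R rs ∧ RingHom.ker f = Ideal.ofList rs := by
  haveI : IsRegularLocalRing (R ⧸ RingHom.ker f) :=
    IsRegularLocalRing.of_ringEquiv (RingHom.quotientKerEquivOfSurjective hf).symm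
  obtain ⟨x, c, hc, hx, hI⟩ :=
    Groth.Agent.CAlg1.exists_params_quotient R _ rfl (RingHom.ker f)
  have hwr : RingTheory.Sequence.IsWeaklyRegular R (List.ofFn x) := by
    refine Groth.Agent.CAlg1.isWeaklyRegular_params R _ ?_ (List.length_ofFn)
    rw [Ideal.ofList]
    refine Eq.trans ?_ hx
    congr 1
    ext y
    exact List.mem_ofFn
  refine ⟨(List.ofFn x).take c, ⟨fun i hi => ?_⟩, ?_⟩
  · rw [List.length_take] at hi
    have h1 : ((List.ofFn x).take c).take i = (List.ofFn x).take i := by
      rw [List.take_take, min_eq_left (by omega)]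
    rw [List.getElem_take, h1]
    exact hwr.regular_mod_prev i (by omega)
  · rw [hI, Ideal.ofList]
    congr 1
    ext y
    rw [Set.mem_setOf_eq, List.mem_take_iff_getElem]
    constructor
    · rintro ⟨i, rfl⟩
      exact ⟨i, by have := i.2; simp [List.length_ofFn]; omega, by simp [List.getElem_ofFn]; rfl⟩
    · rintro ⟨j, hj, rfl⟩
      exact ⟨⟨j, by omega⟩, by simp [List.getElem_ofFn]⟩

end LocalHom

section Main

/-- If `L₂ → L₁` is injective after localizing the polynomial ring, a class killed by `d₂` is killed by a denominator. -/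
theorem exists_smul_mem_trivRel_of_surjPres {k B : Type u} [CommRing k] [CommRing B] [Algebra k B]
    {ι : Type w} {σ : Type u} (P : Algebra.Presentation k B ι σ) {R' B' : Type u} [CommRing R'] [CommRing B']
    [Algebra P.toExtension.Ring R'] [Algebra k R'] [IsScalarTower k P.toExtension.Ring R']
    [Algebra R' B'] [Algebra B B'] [Algebra k B'] [IsScalarTower k R' B'] [IsScalarTower k B B']
    (S : Submonoid P.toExtension.Ring) [IsLocalization S R'] (hs : Function.Surjective (algebraMap R' B'))
    (hgf : ∀ r, algebraMap R' B' (algebraMap P.toExtension.Ring R' r) =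
      algebraMap B B' (algebraMap P.toExtension.Ring B r))
    (hspan : Ideal.span (Set.range fun s => algebraMap P.toExtension.Ring R' (CotT.rel P s)) =
      RingHom.ker (algebraMap R' B'))
    (hinj : Function.Injective (CotT.d2 (surjPres.{u, u, 0, u} hs
      (fun s => algebraMap P.toExtension.Ring R' (CotT.rel P s)) hspan)))
    {q : CotT.relKer P} (hz : CotT.d2 P (mk2 P q) = 0) :
    ∃ s ∈ S, s • (q : CotT.relMod P) ∈ CotT.trivRel P := by
  let P' : Algebra.Presentation R' B' PEmpty.{1} σ :=
    surjPres hs (fun s => algebraMap P.toExtension.Ring R' (CotT.rel P s)) hspan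
  let hom : Algebra.Generators.Hom P.toGenerators P'.toGenerators :=
    { val := fun i => MvPolynomial.C (algebraMap P.toExtension.Ring R' (rX P i))
      aeval_val := fun i => by
        rw [MvPolynomial.aeval_C, hgf, algebraMap_rX] }
  have hτ : ∀ r : P.toExtension.Ring,
      hom.toExtensionHom.toRingHom r = rC P' (algebraMap P.toExtension.Ring R' r) := by
    intro r
    induction r using ring_induction with
    | C a =>
      rw [rC_eq_algebraMap P, ← IsScalarTower.algebraMap_apply]
      exact hom.toAlgHom_C a
    | add p q hp hq => rw [map_add, hp, hq, map_add, map_add]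
    | mul_X p i hp =>
      rw [map_mul, hp, map_mul, map_mul]
      congr 1
      exact hom.toAlgHom_X i
  let h : CotT.PresHom P P' :=
    { hom := hom
      relVal := fun s => Finsupp.single s 1
      jmap_relVal := fun s => by
        rw [CotT.jmap_single, one_mul, hτ]
        rfl }
  have hd : CotT.d2 P' (mk2 P' (h.relKerMap q)) = 0 := by
    have h1 := h.d2_L2map (mk2 P q)
    rw [L2map_mk2] at h1
    exact h1.trans ((congrArg h.L1map hz).trans (map_zero h.L1map))
  have hzero : mk2 P' (h.relKerMap q) = 0 := (injective_iff_map_eq_zero _).1 hinj _ hd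
  rw [mk2_eq_zero_iff] at hzero
  have hC : Function.Bijective (rC P') :=
    ⟨MvPolynomial.C_injective PEmpty R', MvPolynomial.C_surjective (R := R') PEmpty⟩
  have hring : ∀ r, h.ringHom r = rC P' (algebraMap P.toExtension.Ring R' r) := hτ
  refine exists_smul_mem_trivRel h S (fun x => ?_) (fun a ha => ?_) (fun _ => rfl) _ hzero
  · obtain ⟨y, rfl⟩ := hC.2 x
    obtain ⟨⟨a, s⟩, hax⟩ := IsLocalization.surj S y
    exact ⟨a, s, s.2, by rw [hring, hring, ← map_mul, mul_comm, hax]⟩
  · rw [hring, ← map_zero (rC P')] at ha
    obtain ⟨s, hsa⟩ := (IsLocalization.map_eq_zero_iff S R' a).1 (hC.1 ha)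
    exact ⟨s, s.2, hsa⟩

variable (k B : Type u) [Field k] [CommRing B] [Algebra k B] [Algebra.FiniteType k B]

theorem d2_injective_of_regular_aux {n : ℕ} {σ : Type u}
    (hreg : ∀ (m : Ideal B) [m.IsMaximal], IsRegularLocalRing (Localization.AtPrime m))
    (P : Algebra.Presentation k B (Fin n) σ) : Function.Injective (CotT.d2 P) := by
  refine (injective_iff_map_eq_zero _).2 fun z hz => ?_
  obtain ⟨q, rfl⟩ := mk2_surjective P z
  refine mk2_eq_zero P ?_
  let J : Ideal P.toExtension.Ring := Submodule.comap
    (LinearMap.toSpanSingleton P.toExtension.Ring (CotT.relMod P) (q : CotT.relMod P)) (CotT.trivRel P)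
  have hJ : ∀ r, r ∈ J ↔ r • (q : CotT.relMod P) ∈ CotT.trivRel P := fun r => Iff.rfl
  suffices hJtop : J = ⊤ by
    have := (hJ 1).1 (by rw [hJtop]; trivial)
    rwa [one_smul] at this
  by_contra hne
  obtain ⟨N, hN, hJN⟩ := Ideal.exists_le_maximal J hne
  have hker : RingHom.ker (algebraMap P.toExtension.Ring B) ≤ N := fun r hr => hJN <| (hJ r).2 <| by
    rw [← gmk_eq_zero, map_smul]
    exact smul_gmk_eq_zero P hr q
  let f : P.toExtension.Ring →+* B := algebraMap P.toExtension.Ring B
  have hf : Function.Surjective f := algebraMap_surjective P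
  let m : Ideal B := N.map f
  have hNm : m.comap f = N := by
    change (N.map f).comap f = N
    rw [Ideal.comap_map_of_surjective f hf, ← RingHom.ker_eq_comap_bot, sup_eq_left]
    exact hker
  haveI hm : m.IsMaximal := (Ideal.map_eq_top_or_isMaximal_of_surjective f hf hN).resolve_left
    (fun h => hN.ne_top (by rw [← hNm, show m = ⊤ from h, Ideal.comap_top]))
  haveI : IsRegularLocalRing (Localization.AtPrime m) := hreg m
  haveI : IsRegularRing P.toExtension.Ring :=
    inferInstanceAs (IsRegularRing (MvPolynomial (Fin n) k))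
  let R' := Localization.AtPrime (m.comap f)
  let B' := Localization.AtPrime m
  haveI : IsRegularLocalRing R' := IsRegularRing.isRegularLocalRing_localization (m.comap f)
  let g : R' →+* B' := Localization.localRingHom (m.comap f) m f rfl
  letI : Algebra R' B' := g.toAlgebra
  have hgf : ∀ r, algebraMap R' B' (algebraMap P.toExtension.Ring R' r) =
      algebraMap B B' (algebraMap P.toExtension.Ring B r) := fun r => Localization.localRingHom_to_map _ _ _ _ r
  haveI : IsScalarTower k R' B' := IsScalarTower.of_algebraMap_eq fun c => by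
    rw [IsScalarTower.algebraMap_apply k P.toExtension.Ring R', hgf,
      IsScalarTower.algebraMap_apply k B B', IsScalarTower.algebraMap_apply k P.toExtension.Ring B]
  obtain ⟨hgs, hgker⟩ := localRingHom_surjective_ker f hf m
  have hgs' : Function.Surjective (algebraMap R' B') := hgs
  have hspan : Ideal.span (Set.range fun s => algebraMap P.toExtension.Ring R' (CotT.rel P s)) =
      RingHom.ker (algebraMap R' B') := by
    rw [show RingHom.ker (algebraMap R' B') = RingHom.ker g from rfl, hgker,
      show RingHom.ker f = Ideal.span (Set.range (CotT.rel P)) from P.span_range_relation_eq_ker.symm,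
      Ideal.map_span, ← Set.range_comp]
    rfl
  obtain ⟨rs, hrs, hrker⟩ := exists_weaklyRegular_of_regular_quotient (algebraMap R' B') hgs'
  haveI := subsingleton_L2_listPres hgs' rs hrs hrker
  have hinj : Function.Injective (CotT.d2 (surjPres.{u, u, 0, u} hgs'
      (fun s => algebraMap P.toExtension.Ring R' (CotT.rel P s)) hspan)) :=
    d2_injective_of_subsingleton_L2 _ (listPres hgs' rs hrker)
  obtain ⟨s, hs, hsq⟩ :=
    exists_smul_mem_trivRel_of_surjPres P (m.comap f).primeCompl hgs' hgf hspan hinj hz
  refine hs ?_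
  rw [hNm]
  exact hJN ((hJ s).2 hsq)

/-- For a finite type algebra over a field all whose local rings at maximal ideals are regular, `L₂ → L₁` is
injective for every presentation. -/
theorem d2_injective_of_regular {ι : Type w} {σ : Type t}
    (hreg : ∀ (m : Ideal B) [m.IsMaximal], IsRegularLocalRing (Localization.AtPrime m))
    (P : Algebra.Presentation k B ι σ) : Function.Injective (CotT.d2 P) := by
  obtain ⟨n, f, hf⟩ := Algebra.FiniteType.iff_quotient_mvPolynomial''.1 ‹Algebra.FiniteType k B›
  let G : Algebra.Generators k B (Fin n) := Algebra.Generators.ofAlgHom f hf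
  let P₀ : Algebra.Presentation k B (Fin n) G.ker :=
    { __ := G
      relation := Subtype.val
      span_range_relation_eq_ker := by
        refine le_antisymm (Ideal.span_le.2 ?_) fun x hx => Ideal.subset_span ⟨⟨x, hx⟩, rfl⟩
        rintro _ ⟨r, rfl⟩
        exact r.2 }
  exact d2_injective_of_presentation P P₀ (d2_injective_of_regular_aux k B hreg P₀)

end Main

end CotT85
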