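import Mathlib.RingTheory.Smooth.Field
import Mathlib.RingTheory.KrullDimension.Regular
import Groth.Agent.Var76.RegSmooth
import Groth.Agent.Var76.RegKaehler
import Groth.Agent.FlatMor67.RegularSmooth
import Groth.Agent.CAlg1.Serre
import Groth.Agent.EGA4Alg4.CMMod
import Groth.Agent.CotT85.Regular
import Groth.Agent.CotT85.NineTerm
import Groth.Agent.CotT85.CI

/-!
# Regularity and complete intersections through `T¹`, `T²`
-/

set_option autoImplicit false

universe u

open IsLocalRing

noncomputable section

namespace CotT85

lemma mem_of_mem_list {R : Type u} [CommRing R] {rs : List R} {I J : Ideal R} (h : Ideal.ofList rs = I)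
    (hIJ : I ≤ J) {x : R} (hx : x ∈ rs) : x ∈ J := by
  apply hIJ
  rw [← h]
  exact Ideal.subset_span hx

variable (k B : Type u) [Field k] [CommRing B] [Algebra k B] [Algebra.FiniteType k B]

/-- A smooth algebra over a field has vanishing `T²`. -/
theorem subsingleton_T2_of_smooth {ι σ : Type u} [Algebra.Smooth k B] (P : Algebra.Presentation k B ι σ)
    (M : Type u) [AddCommGroup M] [Module B M] : Subsingleton (CotT.T2 P M) := by
  have : IsRegularRing B := Groth.Agent.Var76.RegKaehler.isRegularRing_of_smooth k B
  exact subsingleton_T2_of_injective P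
    (d2_injective_of_regular k B (fun m _ => IsRegularRing.isRegularLocalRing_localization m) P) M

theorem regular_iff_T1 [IsAlgClosed k] :
    ((∀ (p : Ideal B) [p.IsPrime], IsRegularLocalRing (Localization.AtPrime p)) ↔
      ∀ (M : Type u) [AddCommGroup M] [Module B M], Subsingleton (CotT.T1 (CotT.canon k B) M)) ∧
    ((∀ (p : Ideal B) [p.IsPrime], IsRegularLocalRing (Localization.AtPrime p)) →
      ∀ (M : Type u) [AddCommGroup M] [Module B M], Subsingleton (CotT.T2 (CotT.canon k B) M)) := by
  have hsm : (∀ (p : Ideal B) [p.IsPrime], IsRegularLocalRing (Localization.AtPrime p)) →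
      Algebra.Smooth k B := fun h =>
    Groth.Agent.Var76.RegSmooth.smooth_of_regular (fun M _ => h M)
  refine ⟨⟨fun h => ?_, fun h p _ => ?_⟩, fun h M _ _ => ?_⟩
  · have := hsm h
    exact (formallySmooth_iff_subsingleton_T1 (CotT.canon k B)).1 inferInstance
  · have := (formallySmooth_iff_subsingleton_T1 (CotT.canon k B)).2 h
    have : IsNoetherianRing B := Algebra.FiniteType.isNoetherianRing k B
    have : Algebra.FinitePresentation k B := Algebra.FinitePresentation.of_finiteType.1 ‹_›
    have : Algebra.Smooth k B := ⟨inferInstance, inferInstance⟩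
    have := Groth.Agent.Var76.RegKaehler.isRegularRing_of_smooth k B
    exact IsRegularRing.isRegularLocalRing_localization p
  · have := hsm h
    exact subsingleton_T2_of_smooth k B _ M

/-- A localization of a smooth algebra over a field has vanishing `T²`. -/
theorem subsingleton_T2_of_smooth_localization (C : Type u) [CommRing C] [Algebra k C] [Algebra B C]
    [IsScalarTower k B C] [Algebra.Smooth k B] (S : Submonoid B) [IsLocalization S C]
    (M : Type u) [AddCommGroup M] [Module C M] : Subsingleton (CotT.T2 (CotT.canon k C) M) := by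
  let _ : Module B M := Module.compHom M (algebraMap B C)
  have : IsScalarTower B C M := IsScalarTower.of_compHom B C M
  obtain ⟨-, -, -, hex, -⟩ := nine_term_of_presHom (CotT.canon B C) (CotT.canon k B) M (CotT.canon k C)
    (CotT.canonHom k C B C) (CotT.canonHom k B k C)
  have h1 := subsingleton_T2_of_isLocalization S (CotT.canon B C) M
  have h2 := subsingleton_T2_of_smooth k B (CotT.canon k B) M
  refine subsingleton_of_forall_eq 0 fun x => ?_
  obtain ⟨y, rfl⟩ := (hex x).1 (Subsingleton.elim _ _)
  rw [Subsingleton.elim y 0, map_zero]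

theorem regular_localization_iff_T1 [IsAlgClosed k] (m : Ideal B) [m.IsMaximal] :
    (IsRegularLocalRing (Localization.AtPrime m) ↔
      ∀ (M : Type u) [AddCommGroup M] [Module (Localization.AtPrime m) M],
        Subsingleton (CotT.T1 (CotT.canon k (Localization.AtPrime m)) M)) ∧
    (IsRegularLocalRing (Localization.AtPrime m) →
      ∀ (M : Type u) [AddCommGroup M] [Module (Localization.AtPrime m) M],
        Subsingleton (CotT.T2 (CotT.canon k (Localization.AtPrime m)) M)) := by
  have : IsNoetherianRing B := Algebra.FiniteType.isNoetherianRing k B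
  have : Algebra.FinitePresentation k B := Algebra.FinitePresentation.of_finiteType.1 ‹_›
  have : Algebra.EssFiniteType k m.ResidueField := Algebra.EssFiniteType.comp k B m.ResidueField
  have hsm : IsRegularLocalRing (Localization.AtPrime m) → Algebra.IsSmoothAt k m := fun _ =>
    Groth.Agent.FlatMor67.isSmoothAt_of_regular m
  have hnhd : Algebra.IsSmoothAt k m → ∃ g ∉ m, Algebra.Smooth k (Localization.Away g) := fun _ =>
    Algebra.IsSmoothAt.exists_notMem_smooth k m
  refine ⟨⟨fun h => ?_, fun h => ?_⟩, fun h M _ _ => ?_⟩
  · have : Algebra.FormallySmooth k (Localization.AtPrime m) := hsm h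
    exact (formallySmooth_iff_subsingleton_T1 (CotT.canon k (Localization.AtPrime m))).1 inferInstance
  · obtain ⟨g, hg, hsmooth⟩ := hnhd ((formallySmooth_iff_subsingleton_T1
      (CotT.canon k (Localization.AtPrime m))).2 h)
    have := Groth.Agent.Var76.RegKaehler.isRegularRing_of_smooth k (Localization.Away g)
    have hdisj : Disjoint (Submonoid.powers g : Set B) (m : Set B) :=
      (Ideal.disjoint_powers_iff_notMem g (Ideal.IsPrime.isRadical inferInstance)).2 hg
    let q : Ideal (Localization.Away g) := m.map (algebraMap B (Localization.Away g))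
    have hqp : q.IsPrime :=
      IsLocalization.isPrime_of_isPrime_disjoint (Submonoid.powers g) (Localization.Away g) m inferInstance hdisj
    have hq : q.comap (algebraMap B (Localization.Away g)) = m :=
      IsLocalization.under_map_of_isPrime_disjoint (Submonoid.powers g) (Localization.Away g) inferInstance hdisj
    have : IsRegularLocalRing (Localization.AtPrime q) := IsRegularRing.isRegularLocalRing_localization q
    have : IsLocalization.AtPrime (Localization.AtPrime q) m := by
      have h' : IsLocalization (q.comap (algebraMap B (Localization.Away g))).primeCompl (Localization.AtPrime q) :=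
        IsLocalization.isLocalization_isLocalization_atPrime_isLocalization
          (Submonoid.powers g) (Localization.AtPrime q) q
      have e : (q.comap (algebraMap B (Localization.Away g))).primeCompl = m.primeCompl := by
        ext x
        exact not_congr (SetLike.ext_iff.1 hq x)
      change IsLocalization m.primeCompl (Localization.AtPrime q)
      rw [← e]
      exact h' 
    exact IsRegularLocalRing.of_ringEquiv
      (IsLocalization.algEquiv m.primeCompl (Localization.AtPrime q) (Localization.AtPrime m)).toRingEquiv
  · obtain ⟨g, hg, hsmooth⟩ := hnhd (hsm h)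
    have hu : IsUnit (algebraMap B (Localization.AtPrime m) g) :=
      IsLocalization.map_units _ (⟨g, hg⟩ : m.primeCompl)
    let _ : Algebra (Localization.Away g) (Localization.AtPrime m) :=
      (IsLocalization.Away.lift g hu).toAlgebra
    have : IsScalarTower B (Localization.Away g) (Localization.AtPrime m) :=
      IsScalarTower.of_algebraMap_eq fun b => (IsLocalization.Away.lift_eq g hu b).symm
    have : IsScalarTower k (Localization.Away g) (Localization.AtPrime m) :=
      IsScalarTower.of_algebraMap_eq fun c => by
        rw [IsScalarTower.algebraMap_apply k B (Localization.Away g), ← IsScalarTower.algebraMap_apply B,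
          ← IsScalarTower.algebraMap_apply]
    have : IsLocalization (m.primeCompl.map (algebraMap B (Localization.Away g))) (Localization.AtPrime m) :=
      IsLocalization.isLocalization_of_submonoid_le (Localization.Away g) (Localization.AtPrime m)
        (Submonoid.powers g) m.primeCompl (Submonoid.powers_le.2 hg)
    exact subsingleton_T2_of_smooth_localization k (Localization.Away g) (Localization.AtPrime m)
      (m.primeCompl.map (algebraMap B (Localization.Away g))) M

omit B

/-- If `T¹(A/k)` and `T²(A/k)` vanish, `T²(B/A) = 0` iff `T²(B/k) = 0` for a quotient `B` of `A`. -/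
theorem subsingleton_T2_quotient_iff (k : Type u) [Field k] (A : Type u) [CommRing A] [Algebra k A]
    (hT : ∀ (N : Type u) [AddCommGroup N] [Module A N],
      Subsingleton (CotT.T1 (CotT.canon k A) N) ∧ Subsingleton (CotT.T2 (CotT.canon k A) N))
    (I : Ideal A) (M : Type u) [AddCommGroup M] [Module (A ⧸ I) M] :
    Subsingleton (CotT.T2 (CotT.canon A (A ⧸ I)) M) ↔
      Subsingleton (CotT.T2 (CotT.canon k (A ⧸ I)) M) := by
  let _ : Module A M := Module.compHom M (algebraMap A (A ⧸ I))
  have : IsScalarTower A (A ⧸ I) M := IsScalarTower.of_compHom A (A ⧸ I) M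
  obtain ⟨-, -, -, hex, δ₀, δ₁, -, -, -, hδ⟩ := nine_term_of_presHom (CotT.canon A (A ⧸ I)) (CotT.canon k A) M
    (CotT.canon k (A ⧸ I)) (CotT.canonHom k (A ⧸ I) A (A ⧸ I)) (CotT.canonHom k A k (A ⧸ I))
  have h1 := (hT M).1
  have h2 := (hT M).2
  constructor
  · intro h
    refine subsingleton_of_forall_eq 0 fun x => ?_
    obtain ⟨y, rfl⟩ := (hex x).1 (Subsingleton.elim _ _)
    rw [Subsingleton.elim y 0, map_zero]
  · intro h
    refine subsingleton_of_forall_eq 0 fun x => ?_
    obtain ⟨y, hy⟩ := (hδ x).1 (Subsingleton.elim _ _)
    exact hy.symm.trans ((congrArg δ₁ (Subsingleton.elim y 0)).trans δ₁.map_zero)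

theorem completeIntersection_iff (A : Type u) [CommRing A] [IsRegularLocalRing A] [Algebra k A]
    (hT : ∀ (N : Type u) [AddCommGroup N] [Module A N],
      Subsingleton (CotT.T1 (CotT.canon k A) N) ∧ Subsingleton (CotT.T2 (CotT.canon k A) N))
    (I : Ideal A) (hI : I ≠ ⊤) :
    (∃ rs : List A, Ideal.ofList rs = I ∧ (rs.length : WithBot ℕ∞) + ringKrullDim (A ⧸ I) = ringKrullDim A) ↔
      ∀ (M : Type u) [AddCommGroup M] [Module (A ⧸ I) M], Subsingleton (CotT.T2 (CotT.canon k (A ⧸ I)) M) := by
  have hs : Function.Surjective (algebraMap A (A ⧸ I)) := Ideal.Quotient.mk_surjective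
  have hker : RingHom.ker (algebraMap A (A ⧸ I)) = I := Ideal.mk_ker
  have hIm : I ≤ maximalIdeal A := IsLocalRing.le_maximalIdeal hI
  have hiff := fun (M : Type u) [AddCommGroup M] [Module (A ⧸ I) M] =>
    subsingleton_T2_quotient_iff k A hT I M
  obtain ⟨d, hd⟩ : ∃ d : ℕ, ringKrullDim A = d :=
    ⟨_, (IsRegularLocalRing.spanFinrank_maximalIdeal (R := A)).symm⟩
  constructor
  · rintro ⟨rs, hrs, hdim⟩ M _ _
    refine (hiff M).1 ?_
    have hmem : ∀ x ∈ rs, x ∈ maximalIdeal A := fun x hx => mem_of_mem_list hrs hIm hx
    have hCM : LocCoh.IsCohenMacaulayModule A A := by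
      change Module.supportDim A A = _
      rw [Module.supportDim_self_eq_ringKrullDim, Groth.Agent.CAlg1.depth_regular A hd, hd]
      rfl
    have hwr : RingTheory.Sequence.IsWeaklyRegular A rs := by
      refine Groth.Agent.EGA4Alg4.isWeaklyRegular_of_supportDim hCM hmem ?_
      rw [Module.supportDim_self_eq_ringKrullDim, ← hdim, add_comm, smul_eq_mul, Ideal.mul_top, hrs,
        Module.supportDim_quotient_eq_ringKrullDim]
    exact subsingleton_T2_of_weaklyRegular (CotT.canon A (A ⧸ I)) hs rs hwr (hker.trans hrs.symm) M
  · intro h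
    obtain ⟨rs, hwr, hrs⟩ := exists_weaklyRegular_of_T2 (CotT.canon A (A ⧸ I)) hs (hker.le.trans hIm)
      (fun M _ _ => (hiff M).2 (h M))
    rw [hker] at hrs
    refine ⟨rs, hrs.symm, ?_⟩
    have hreg := Groth.Agent.CAlg1.isRegular_of_isWeaklyRegular hwr
      (fun x hx => mem_of_mem_list hrs.symm hIm hx)
    have := ringKrullDim_add_length_eq_ringKrullDim_of_isRegular rs hreg
    rw [← hrs] at this
    rw [add_comm]
    exact this

end CotT85
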